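import Mathlib
import Cfsg.Agent.H9.GWA1
import Cfsg.Agent.H15.GWKPSL
import Cfsg.Agent.H58.Simple
import Cfsg.Agent.H52.FStar
import Cfsg.Agent.S0253
import Cfsg.Agent.S0255

/-!
# Component-free overgroups of involution centralizers in `L₂(q)`
-/

set_option autoImplicit false

namespace Cfsg.Agent.H9.GW

open Subgroup Cfsg.Agent.H52
open scoped MatrixGroups

variable {G : Type*} [Group G] [Finite G]

/-- The facts about `L₂(q)` itself, with `q` the order of the field. -/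
theorem kl2_of_equiv (hC : centralizer ((⊤ : Subgroup G) : Set G) = ⊥) (hD : DGrp G)
    {F : Type*} [Field F] [Finite F] (hodd : Odd (Nat.card F)) (h3 : 3 < Nat.card F)
    (e : G ≃* PSL(2, F)) : KF (⊤ : Subgroup G) ∧ ∃ κ d, KL2 (⊤ : Subgroup G) (Nat.card F) κ d := by
  have h := H15.pmod_conjAut (⊤ : Subgroup G) (topEquiv.trans e) hC
  obtain ⟨κ, d, hr⟩ := H15.exists_rel hodd h3
  refine ⟨h.kf hD hodd h3, κ, d, hr, ?_, fun t htL ht => h.inner hD hodd h3 hr htL ht,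
      fun s hsL hs => h.outer hD hodd hr hsL hs⟩
  rw [h.card_eq le_rfl le_rfl fun x a e => h.mem_iff e]
  have h1 := H29.card_L_of_odd hodd
  obtain ⟨⟨h2, h4⟩ | ⟨h2, h4⟩, -⟩ := hr
  · have h5 : Nat.card F - 1 = 2 * κ := by omega
    have h6 : Nat.card F + 1 = 2 * d := by omega
    rw [h5, h6] at h1
    nlinarith
  · have h5 : Nat.card F - 1 = 2 * d := by omega
    rw [h5, h2] at h1
    nlinarith

theorem KL2.card_Cz {q κ d : ℕ} (h : KL2 (⊤ : Subgroup G) q κ d) {t : G} (ht : orderOf t = 2) :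
    Nat.card (Cz t) = 2 * κ := by
  obtain ⟨c, -, -, -, h1, -⟩ := h.inner t trivial ht
  rwa [top_inf_eq] at h1

theorem KL2.cent_four {q κ d : ℕ} (h : KL2 (⊤ : Subgroup G) q κ d) (hD : DGrp G) {a b : G}
    (ha : orderOf a = 2) (hb : orderOf b = 2) (hab : a ≠ b) (hc : a * b = b * a) :
    Cz a ⊓ Cz b ≤ V4 a b := by
  rintro x ⟨h1, h2⟩
  obtain ⟨c, -, -, h3, -, h4, -⟩ := h.inner a trivial ha
  refine hD.mem_V4 ha hb hab hc ?_ (mem_Cz.mp h1) (mem_Cz.mp h2)
  by_cases hx : x ∈ zpowers c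
  · have h5 := inv_of_mem_zpowers (h4 b ⟨trivial, mem_Cz.mpr hc.symm⟩
      fun hb' => hab (inv_unique h3 hb' ha hb)).2 hx
    rw [mem_Cz'.mp (mem_Cz_comm.mp h2)] at h5
    exact mul_eq_one_iff_eq_inv.mpr h5
  · exact (h4 x ⟨trivial, h1⟩ hx).1

theorem KL2.le_four {q κ d : ℕ} (h : KL2 (⊤ : Subgroup G) q κ d) (hk : KF (⊤ : Subgroup G))
    (hD : DGrp G) (hq : Odd q) {t : G} (ht : orderOf t = 2) {K : Subgroup G} (hlt : Cz t < K)
    (hK : K ⊓ centralizer (Ft K : Set G) ≤ Ft K) : κ ≤ 4 := by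
  have htK : t ∈ K := hlt.le (self_mem_Cz t)
  have hQ : Op 2 K ≠ ⊥ := by
    intro h0
    have a1 : Ft K ≤ Cz t := nilp_le_of_forall (Ft_nilpotent K) fun p hp => by
      by_cases h2 : p = 2
      · subst h2
        exact (Op_mono (Ft_le K) (isSubnormal_subgroupOf_of_le_normalizer
          (le_normalizer_Ft K))).trans (h0 ▸ bot_le)
      · exact (Op_mono (Ft_le K) (isSubnormal_subgroupOf_of_le_normalizer
          (le_normalizer_Ft K))).trans
          (hk.k1 t ht p _ hp h2 (Op_pgroup p K) (hlt.le.trans (le_normalizer_Op K)))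
    have a2 : t ∈ Ft K := hK ⟨htK, le_Cz_iff.mp a1⟩
    have a3 : Ft K ≤ Od K := nilp_le_of_forall (Ft_nilpotent K) fun p hp => by
      by_cases h2 : p = 2
      · subst h2
        exact (Op_mono (Ft_le K) (isSubnormal_subgroupOf_of_le_normalizer
          (le_normalizer_Ft K))).trans (h0 ▸ bot_le)
      · exact (Op_mono (Ft_le K) (isSubnormal_subgroupOf_of_le_normalizer
          (le_normalizer_Ft K))).trans (Op_le_Od hp h2 K)
    exact not_mem_of_odd (odd_Od K) ht (a3 a2)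
  have hlt' : 2 * κ < Nat.card K := by
    rw [← h.card_Cz ht]
    exact Set.Finite.card_lt_card (Set.toFinite _) hlt
  have hZ : K ≤ normalizer ((Op 2 K ⊓ centralizer (Op 2 K : Set G) : Subgroup G) : Set G) :=
    fun g hg => mem_norm_inf (le_normalizer_Op K hg) (mem_norm_cent (le_normalizer_Op K hg))
  obtain ⟨a, ha, ha1, ha2⟩ := exists_orderOf_eq_prime_mem_centralizer (Op_pgroup 2 K)
    (Op_pgroup 2 K) le_normalizer hQ
  have ha3 : Op 2 K ≤ Cz a := fun x hx => mem_Cz.mpr (ha1 x hx)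
  have haZ : a ∈ Op 2 K ⊓ centralizer (Op 2 K : Set G) := ⟨ha, le_Cz_iff.mp ha3⟩
  obtain ⟨g, hg, hga⟩ : ∃ g ∈ K, g ∉ Cz a := by
    by_contra hn
    push Not at hn
    have := card_le_of_le (show K ≤ Cz a from hn)
    rw [h.card_Cz ha2] at this
    omega
  have hbZ := H4.conj_mem_of_mem_normalizer (hZ hg) haZ
  have hb2 : orderOf (g * a * g⁻¹) = 2 := by
    rw [← ha2]
    exact (MulAut.conj g).orderOf_eq a
  have hab : a ≠ g * a * g⁻¹ := fun e => hga (mem_Cz'.mpr e.symm)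
  have hc : a * (g * a * g⁻¹) = g * a * g⁻¹ * a := (mem_Cz.mp (ha3 hbZ.1)).symm
  have hV := h.cent_four hD ha2 hb2 hab hc
  have e : Op 2 K = V4 a (g * a * g⁻¹) :=
    le_antisymm ((le_inf ha3 (le_Cz_iff.mpr hbZ.2)).trans hV) (V4_le ha hbZ.1)
  have b1 := (H58.relIndex_centralizer_dvd_card_mulAut (V4 a (g * a * g⁻¹))).trans
    (H8.card_mulAut_four_dvd (isKleinFour_V4 ha2 hb2 hab hc))
  have b2 := relIndex_mul_relIndex ⊥ _ _ bot_le (centralizer_le_norm (V4 a (g * a * g⁻¹)))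
  rw [relIndex_bot_left, relIndex_bot_left] at b2
  have b3 : Nat.card (centralizer ((V4 a (g * a * g⁻¹) : Subgroup G) : Set G)) ≤ 4 := by
    rw [← card_V4 ha2 hb2 hab hc, centralizer_V4]
    exact card_le_of_le hV
  have b4 : Nat.card K ≤ 24 := by
    refine (card_le_of_le (e ▸ le_normalizer_Op K :
      K ≤ normalizer ((V4 a (g * a * g⁻¹) : Subgroup G) : Set G))).trans ?_
    rw [← b2]
    exact Nat.mul_le_mul b3 (Nat.le_of_dvd (by decide) b1)
  obtain ⟨m, hm⟩ : 2 * κ ∣ Nat.card K := h.card_Cz ht ▸ card_dvd_of_le hlt.le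
  have b5 : Nat.card K ∣ 2 * κ * (q * d) := by
    rw [← mul_assoc, ← h.card_L]
    exact card_dvd_of_le le_top
  have hκ := H15.rel_two_le h.rel
  rw [hm] at b5 b4 hlt'
  have b6 : Odd m := (hq.mul (H15.rel_odd h.rel)).of_dvd_nat
    (Nat.dvd_of_mul_dvd_mul_left (by omega) b5)
  have b7 : 3 ≤ m := by
    obtain ⟨j, rfl⟩ := b6
    rcases j with _ | j
    · simp at hlt'
    · omega
  nlinarith

theorem s3287_of_isL [hs : IsSimpleGroup G] (hD : DGrp G) (hL : ¬ IsMulCommutative G → IsL G)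
    (t : G) (ht : orderOf t = 2) (K : Subgroup G) (hlt : centralizer ({t} : Set G) < K)
    (hK : generalizedFittingSubgroup ↥K = fittingSubgroup ↥K) :
    Nonempty (G ≃* ↥(alternatingGroup (Fin 5))) ∨ Nonempty (G ≃* ↥(alternatingGroup (Fin 7))) ∨
      (∃ (F : Type) (_ : Field F) (_ : Fintype F), Fintype.card F = 2 ∧
        Nonempty (G ≃* PSL(3, F))) ∨
      (∃ (F : Type) (_ : Field F) (_ : Fintype F), Fintype.card F = 9 ∧
        Nonempty (G ≃* PSL(2, F))) := by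
  have hc : ¬ IsMulCommutative G := fun h =>
    hlt.not_ge fun x _ => mem_Cz.mpr (h.is_comm.comm x t)
  rcases hL hc with ⟨F, _, _, hodd, h3, ⟨e⟩⟩ | h7
  swap
  · exact Or.inr (Or.inl h7)
  have hC : centralizer ((⊤ : Subgroup G) : Set G) = ⊥ := by
    rw [coe_top, centralizer_univ]
    refine (center G).normal_of_characteristic.eq_bot_or_eq_top.resolve_right fun e => hc ?_
    exact ⟨⟨fun a b => mem_center_iff.mp (e ▸ mem_top b) a⟩⟩
  rw [← Nat.card_eq_fintype_card] at hodd h3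
  obtain ⟨hk, κ, d, h⟩ := kl2_of_equiv hC hD hodd h3 e
  have h4 := h.le_four hk hD hodd ht hlt (by
    rw [← map_subtype_centralizer]
    exact map_mono (hK ▸ centralizer_fstar_le))
  have h5 : Fintype.card F = 5 ∨ Fintype.card F = 7 ∨ Fintype.card F = 9 := by
    rw [← Nat.card_eq_fintype_card]
    obtain ⟨h6, h7, j, h8⟩ := h.rel
    omega
  rcases h5 with h5 | h5 | h5
  · obtain ⟨f⟩ := S0253.result h5
    exact Or.inl ⟨e.trans f⟩
  · obtain ⟨f⟩ := S0255.result (K := ZMod 2) h5 (by simp)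
    exact Or.inr (Or.inr (Or.inl ⟨ZMod 2, inferInstance, inferInstance, by simp, ⟨e.trans f⟩⟩))
  · exact Or.inr (Or.inr (Or.inr ⟨F, inferInstance, inferInstance, h5, ⟨e⟩⟩))

end Cfsg.Agent.H9.GW
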