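import Cfsg.Agent.H17.KnDef2

/-!
# Project KN: the action on `DD`
-/

set_option autoImplicit false
set_option maxRecDepth 100000

namespace Cfsg.Agent.H9.KnHv

open Equiv Subgroup Cfsg.Agent.H11.A16 Cfsg.Agent.H63 Cfsg.Agent.H17.Kn

universe u

theorem DD_le : DD ≤ T0 := inf_le_left.trans inf_le_left
theorem U1_FF : U1 ≤ FF := inf_le_right

theorem cen_U1 (m : Mod2) {b : N2} (hb : b ∈ DD) (h : ∀ u ∈ U1, Commute b u) : b ∈ U1 := by
  obtain ⟨v, hv, u, hu, rfl⟩ := m.pDD b hb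
  have h1 : ∀ w ∈ U1, Commute v w := fun w hw => by
    have := (h w hw).mul_left (m.ab.2.1 _ (U1_FF hu) _ (U1_FF hw)).inv_left
    rwa [mul_inv_cancel_right] at this
  have h2 := h1 (xe 0 2) (by decide +kernel)
  have h3 := h1 (xe 0 3) (by decide +kernel)
  rcases m.lVV v hv with rfl | rfl | rfl | rfl
  · rwa [one_mul]
  · exact absurd h2 (by decide +kernel)
  · exact absurd h3 (by decide +kernel)
  · exact absurd h2 (by decide +kernel)

theorem PI_cen (m : Mod2) {a u : N2} (ha : a ∈ PI) (hu : u ∈ DD) : Commute a u := by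
  obtain ⟨v, hv, w, hw, rfl⟩ := m.pDD u hu
  have hV : VV ≤ AA := m.le.2.2.2.2.2.2.2.2.2.2.2.2.2.2.2.2.1
  exact (m.ab.2.2.1 _ ha.1 _ (hV hv)).mul_right (m.ab.2.1 _ ha.2 _ (U1_FF hw))

theorem hv (hB : Base.{u}) : HvStmt.{u} := by
  intro G _ _ J φ h
  have K := hB.kit J φ h
  have m := hB.m2
  obtain ⟨-, -, -, -, -, -, -, -, -, -, -, -, -, -, -, hUD, hVA, hVD, hAD, -⟩ := m.le
  have E : Em J DD := h.em.mono DD_le
  have hPD : PI ≤ DD := inf_le_left.trans hAD
  have toPI : ∀ a ∈ AA, (∀ u ∈ DD, Commute a u) → a ∈ PI := fun a ha h1 =>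
    ⟨ha, U1_FF (cen_U1 m (hAD ha) fun u hu => h1 u (hUD hu))⟩
  have memC : ∀ g : G, (∀ u ∈ DD, J u * g = g * J u) → g ∈ C[im J DD] := fun g hg x hx => by
    obtain ⟨u, hu, rfl⟩ := E.mem.1 hx
    exact hg u hu
  have p1 : ∀ g ∈ C[im J U1], g ∈ N[im J DD] → ∃ c ∈ FF, Ex J g c DD := by
    intro g hc hn
    obtain ⟨α, A, hα⟩ := E.au hn
    have a1 : ∀ u ∈ U1, α u = u := fun u hu => E.inj _ (A.mem u (hUD hu)) _ (hUD hu) (by
      rw [← hα u (hUD hu), ← hc _ (mem_im hu), mul_inv_cancel_right])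
    have a0 : α 1 = 1 := a1 1 (one_mem _)
    have a2 : ∀ v ∈ VV, ∃ b ∈ FF, α v = v * b ∧ (v * b) ^ 2 = 1 := fun v hv => by
      have hvD := hVD hv
      refine ⟨v⁻¹ * α v, U1_FF (cen_U1 m (mul_mem (inv_mem hvD) (A.mem v hvD)) fun u hu => ?_),
        by group, ?_⟩
      · have h1 := ((m.nrm v).2.2.2.2.2 (DD_le hvD)).1 u hu
        have h2 : α v * u = v * u * v⁻¹ * α v := by
          have := A.mul _ (hUD h1) _ hvD
          rw [inv_mul_cancel_right, A.mul _ hvD _ (hUD hu), a1 _ h1, a1 _ hu] at this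
          exact this
        show v⁻¹ * α v * u = u * (v⁻¹ * α v)
        rw [mul_assoc, h2]; group
      · rw [mul_inv_cancel_left, pow_two, ← A.mul _ hvD _ hvD, m.ab.2.2.2.2.2.1 v (hVA hv), a0]
    have v2 : xe 2 4 ∈ VV := by decide +kernel
    have v3 : xe 3 4 ∈ VV := by decide +kernel
    obtain ⟨b, hb, eb, sb⟩ := a2 _ v2
    obtain ⟨c, hc', ec, sc⟩ := a2 _ v3
    have hbc : Commute (xe 2 4 * b) (xe 3 4 * c) := by
      show _ * _ = _ * _
      rw [← eb, ← ec, ← A.mul _ (hVD v2) _ (hVD v3), ← A.mul _ (hVD v3) _ (hVD v2),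
        (m.ab.2.2.1 _ (hVA v2) _ (hVA v3)).eq]
    obtain ⟨e, he, e2, e3⟩ := hB.m3.cplF b hb c hc' sb sc hbc
    refine ⟨e, he, fun u hu => ?_⟩
    have : α u = e * u * e⁻¹ := by
      obtain ⟨v, hv, w, hw, rfl⟩ := m.pDD u hu
      have h1 : e * w * e⁻¹ = w := by
        rw [(m.ab.2.1 _ he _ (U1_FF hw)).eq, mul_inv_cancel_right]
      have h2 : α v = e * v * e⁻¹ := by
        rcases m.lVV v hv with rfl | rfl | rfl | rfl
        · rw [a0, mul_one, mul_inv_cancel]
        · rw [e2, eb]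
        · rw [e3, ec]
        · rw [A.mul _ (hVD v2) _ (hVD v3), eb, ec, ← e2, ← e3]; group
      rw [A.mul _ (hVD hv) _ (hUD hw), a1 w hw, h2]
      nth_rewrite 1 [← h1]
      group
    exact this ▸ hα u hu
  have p3 : ∀ F : Subgroup G, IsPGroup 2 F → F ≤ N[im J DD] → ∀ g ∈ F, g ∈ C[im J DD] →
      g ∈ im J PI := by
    intro F hF hn g hg hc
    have h2 : IsPGroup 2 (im J DD) := E.two (hB.m1.two.to_le (DD_le.trans inf_le_right))
    have h3 := K.cA2 _ (h2.to_sup_of_normal_left' hF hn) ((im_mono hAD).trans le_sup_left) g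
      (mem_sup_right hg) (centralizer_le (im_mono hAD) hc)
    obtain ⟨a, ha, rfl⟩ := (E.mono hAD).mem.1 h3
    refine mem_im (toPI a ha fun u hu => E.inj _ (mul_mem (hAD ha) hu) _ (mul_mem hu (hAD ha)) ?_)
    rw [E.mul _ (hAD ha) _ hu, E.mul _ hu _ (hAD ha), hc _ (mem_im hu)]
  refine ⟨p1, fun g hg => ?_, p3, fun F hF hc hn => ?_⟩
  · obtain ⟨a, ha, k, hk, k1, rfl⟩ := K.dec g (centralizer_le (im_mono hAD) hg)
    have ha0 := AA_le_T0 ha
    have h1 : ∀ u ∈ DD, Commute a u := fun u hu => by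
      have := K.down _ (mul_mem (K.le a ha0) hk) u (DD_le hu) u (DD_le hu) (by
        rw [R, ← hg _ (mem_im hu), mul_inv_cancel_right])
      rw [h.mul _ (K.le a ha0) _ hk, k1, mul_one, h.res a ha0, mul_inv_eq_iff_eq_mul, ← map_mul,
        ← map_mul] at this
      exact pm2_inj this
    have h2 : J a ∈ C[im J DD] := memC _ fun u hu => by
      rw [← E.mul _ (hAD ha) _ hu, ← E.mul _ hu _ (hAD ha), (h1 u hu).eq]
    exact ⟨a, toPI a ha h1, k, hk, k1, (mul_mem_cancel_left h2).1 hg, rfl⟩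
  · choose c c1 c2 using fun g : F => p1 g (hc g.2) (hn g.2)
    have hPF : PI ≤ FF := inf_le_right
    have h1 : Function.Injective fun x : F ⧸ (im J PI).subgroupOf F =>
        (QuotientGroup.mk ⟨c x.out, c1 _⟩ : FF ⧸ PI.subgroupOf FF) := by
      intro x y hxy
      have h2 : (c x.out)⁻¹ * c y.out ∈ PI :=
        (QuotientGroup.eq (s := PI.subgroupOf FF) (a := ⟨c x.out, c1 _⟩) (b := ⟨c y.out, c1 _⟩)).1 hxy
      rw [← x.out_eq, ← y.out_eq]
      refine QuotientGroup.eq.2 (p3 F hF hn _ (x.out⁻¹ * y.out).2 (memC _ fun u hu => ?_))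
      have h3 := c2 x.out u hu
      have h4 := c2 y.out u hu
      have h5 : c y.out * u * (c y.out)⁻¹ = c x.out * u * (c x.out)⁻¹ := by
        calc c y.out * u * (c y.out)⁻¹
            = c x.out * ((c x.out)⁻¹ * c y.out * u) * (c y.out)⁻¹ := by group
          _ = _ := by rw [(PI_cen m h2 hu).eq]; group
      rw [R] at h3 h4
      rw [h5, ← h3] at h4
      show J u * ((x.out : G)⁻¹ * y.out) = (x.out : G)⁻¹ * y.out * J u
      calc J u * ((x.out : G)⁻¹ * y.out)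
          = (x.out : G)⁻¹ * (x.out * J u * (x.out : G)⁻¹) * y.out := by group
        _ = _ := by rw [← h4]; group
    have h2 := Nat.card_le_card_of_injective _ h1
    have h3 : Nat.card ((im J PI).subgroupOf F) ≤ Nat.card (PI.subgroupOf FF) := by
      rw [Nat.card_congr (subgroupOfEquivOfLe hPF).toEquiv, ← (E.mono hPD).card, ← inf_subgroupOf_right,
        Nat.card_congr (subgroupOfEquivOfLe inf_le_right).toEquiv]
      exact card_le_of_le inf_le_left
    rw [← hB.m1.cFF, card_eq_card_quotient_mul_card_subgroup ((im J PI).subgroupOf F),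
      card_eq_card_quotient_mul_card_subgroup (PI.subgroupOf FF)]
    exact Nat.mul_le_mul h2 h3

end Cfsg.Agent.H9.KnHv
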