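import Cfsg.Agent.H9.SelfCent
import Cfsg.Agent.H71.Meta
import Cfsg.Agent.H90.Metacyclic
import Cfsg.Agent.H8.Tate
import Cfsg.Agent.H7.PBasic

/-!
# Products of two cyclic 2-groups
-/

set_option autoImplicit false

namespace Cfsg.Agent.H9.Bic

open Subgroup
open scoped commutatorElement

universe u

variable {G : Type*} [Group G]

/-- `G = ⟨x⟩⟨y⟩` -/
def Bi (x y : G) : Prop := ∀ g : G, ∃ i j : ℤ, g = x ^ i * y ^ j

theorem Bi.symm {x y : G} (h : Bi x y) : Bi y x := fun g => by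
  obtain ⟨i, j, e⟩ := h g⁻¹
  exact ⟨-j, -i, by rw [← inv_inv g, e]; group⟩

theorem Bi.eq_top {x y : G} (h : Bi x y) {N : Subgroup G} (hx : x ∈ N) (hy : y ∈ N) : N = ⊤ :=
  eq_top_iff.2 fun g _ => by
    obtain ⟨i, j, rfl⟩ := h g
    exact mul_mem (zpow_mem hx i) (zpow_mem hy j)

theorem Bi.map {H : Type*} [Group H] {x y : G} (h : Bi x y) {f : G →* H}
    (hf : Function.Surjective f) : Bi (f x) (f y) := fun g => by
  obtain ⟨g, rfl⟩ := hf g
  obtain ⟨i, j, rfl⟩ := h g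
  exact ⟨i, j, by simp⟩

theorem mem_of_odd (hG : IsPGroup 2 G) {N : Subgroup G} {x : G} {s : ℤ} (hs : Odd s)
    (h : x ^ s ∈ N) : x ∈ N := by
  obtain ⟨k, hk⟩ := hG x
  have hc : IsCoprime s ((2 : ℤ) ^ k) := (Int.isCoprime_two_right.2 hs).pow_right
  obtain ⟨a, b, hab⟩ := hc
  have e : x = (x ^ s) ^ a := by
    have h1 : x ^ ((2 : ℤ) ^ k) = 1 := by exact_mod_cast hk
    calc x = x ^ (s * a + 2 ^ k * b) := by rw [mul_comm s, mul_comm _ b, hab, zpow_one]
      _ = (x ^ s) ^ a := by rw [zpow_add, zpow_mul, zpow_mul, h1, one_zpow, mul_one]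
  exact e ▸ zpow_mem h a

theorem exists_two_pow {i j : ℤ} (h : ¬ (i = 0 ∧ j = 0)) :
    ∃ (e : ℕ) (s t : ℤ), i = s * 2 ^ e ∧ j = t * 2 ^ e ∧ (Odd s ∨ Odd t) := by
  have h0 : 0 < Int.gcd i j := Nat.pos_of_ne_zero fun e => h (Int.gcd_eq_zero_iff.1 e)
  obtain ⟨i', j', h1, h2, h3⟩ := Int.exists_gcd_one h0
  obtain ⟨e, m, hm, hd⟩ := Nat.exists_eq_two_pow_mul_odd h0.ne'
  have hm' : Odd (m : ℤ) := by exact_mod_cast hm
  refine ⟨e, i' * m, j' * m, ?_, ?_, ?_⟩
  · rw [h2, hd]; push_cast; ring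
  · rw [h3, hd]; push_cast; ring
  · by_contra hc
    rw [not_or, Int.odd_mul, Int.odd_mul] at hc
    have k1 : (2 : ℤ) ∣ i' := even_iff_two_dvd.1 (Int.not_odd_iff_even.1 fun k => hc.1 ⟨k, hm'⟩)
    have k2 : (2 : ℤ) ∣ j' := even_iff_two_dvd.1 (Int.not_odd_iff_even.1 fun k => hc.2 ⟨k, hm'⟩)
    have := Int.dvd_coe_gcd k1 k2
    rw [h1] at this
    omega

theorem meta_of_commutator_le {a b : G} (h : _root_.commutator G ≤ zpowers a)
    (h2 : zpowers a ⊔ zpowers b = ⊤) : IsMetacyclic G :=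
  H71.isMetacyclic_iff.2 ⟨a, b, Normal.of_commutator_le G h, h2⟩

theorem base (hG : IsPGroup 2 G) {x y c : G} (h : Bi x y) (hc : c ∈ center G) (h2 : orderOf c = 2)
    (hcm : c ∈ _root_.commutator G) (hle : _root_.commutator G ≤ zpowers c)
    (hm : ¬ IsMetacyclic G) :
    ∃ s t : ℤ, Odd s ∧ Odd t ∧ (x ^ s * y ^ t) ^ 2 ∈ _root_.commutator G := by
  have c2 : c ^ 2 = 1 := h2 ▸ pow_orderOf_eq_one c
  have kw : ∀ a b : G, ⁅a, b⁆ ∈ center G ∧ ⁅a, b⁆ ^ 2 = 1 := fun a b => by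
    obtain ⟨k, hk⟩ := hle (commutator_mem_commutator (mem_top a) (mem_top b))
    rw [← hk]
    exact ⟨zpow_mem hc k, by
      show (c ^ k) ^ 2 = 1
      rw [← zpow_natCast, ← zpow_mul, mul_comm, zpow_mul, zpow_natCast, c2, one_zpow]⟩
  have ksq : ∀ a : G, a ^ 2 ∈ center G := fun a => mem_center_iff.2 fun b => by
    obtain ⟨k1, k2⟩ := kw a b
    have e : a * b = ⁅a, b⁆ * b * a := by rw [commutatorElement_def]; group
    calc b * a ^ 2 = ⁅a, b⁆ ^ 2 * b * a * a := by rw [k2, sq]; group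
      _ = ⁅a, b⁆ * (a * b) * a := by rw [e, sq]; group
      _ = a * (⁅a, b⁆ * b * a) := by
        rw [← mul_assoc _ a, ← mem_center_iff.1 k1 a]; group
      _ = a ^ 2 * b := by rw [← e, sq]; group
  have kev : ∀ (a : G) (s : ℤ), ¬ Odd s → a ^ s ∈ center G := fun a s hs => by
    obtain ⟨k, rfl⟩ := Int.not_odd_iff_even.1 hs
    rw [zpow_add, ← sq]; exact ksq _
  obtain ⟨i, j, hij⟩ := h c
  obtain ⟨e, s, t, rfl, rfl, hst⟩ := exists_two_pow (i := i) (j := j) (by
    rintro ⟨rfl, rfl⟩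
    rw [zpow_zero, zpow_zero, mul_one] at hij
    rw [hij, orderOf_one] at h2; omega)
  have key : c ∉ zpowers (x ^ s * y ^ t) := fun hg => by
    have h3 := hle.trans (zpowers_le.2 hg)
    rcases hst with hs | ht
    · refine hm (meta_of_commutator_le (b := y) h3 (h.eq_top (mem_of_odd hG hs ?_)
        (mem_sup_right (mem_zpowers y))))
      exact (mul_mem_cancel_right (mem_sup_right (zpow_mem (mem_zpowers y) t))).1
        (mem_sup_left (mem_zpowers _))
    · refine hm (meta_of_commutator_le (b := x) h3 (h.eq_top (mem_sup_right (mem_zpowers x))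
        (mem_of_odd hG ht ?_)))
      exact (mul_mem_cancel_left (mem_sup_right (zpow_mem (mem_zpowers x) s))).1
        (mem_sup_left (mem_zpowers _))
  rcases e with _ | e
  · exact absurd (by rw [hij]; simp) key
  set w := ⁅(x ^ s)⁻¹, y ^ t⁆ with hw
  obtain ⟨w1, w2⟩ := kw (x ^ s)⁻¹ (y ^ t)
  rw [← hw] at w1 w2
  have e1 : (x ^ s * y ^ t) ^ 2 = (x ^ s) ^ 2 * (y ^ t) ^ 2 * w := by
    rw [mul_assoc, mem_center_iff.1 w1, hw, commutatorElement_def, sq, sq, sq]; group
  have e2 : (x ^ s * y ^ t) ^ (2 * 2 ^ e) = c * w ^ 2 ^ e := by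
    rw [pow_mul, e1, Commute.mul_pow (mem_center_iff.1 w1 _),
      Commute.mul_pow (mem_center_iff.1 (ksq _) _), hij, ← pow_mul, ← pow_mul, zpow_mul, zpow_mul,
      pow_succ']
    norm_cast
  have e3 : w ^ 2 ^ e ≠ 1 := fun k => key ⟨(2 * 2 ^ e : ℕ), by
    show _ ^ ((2 * 2 ^ e : ℕ) : ℤ) = c
    rw [zpow_natCast, e2, k, mul_one]⟩
  have e4 : w ≠ 1 := fun k => e3 (by rw [k, one_pow])
  rcases e with _ | e
  · refine ⟨s, t, by_contra fun k => e4 ?_, by_contra fun k => e4 ?_, ?_⟩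
    · exact commutatorElement_eq_one_iff_mul_comm.2 (mem_center_iff.1 (inv_mem (kev x s k)) _).symm
    · exact commutatorElement_eq_one_iff_mul_comm.2 (mem_center_iff.1 (kev y t k) _)
    · rw [pow_zero, mul_one, pow_one] at e2
      rw [e2]
      exact mul_mem hcm (commutator_mem_commutator (mem_top _) (mem_top _))
  · exact absurd (by rw [pow_succ', pow_mul, w2, one_pow]) e3

/-- lifting through a central involution -/
theorem lift [Finite G] (hG : IsPGroup 2 G) {c : G} (hc : c ∈ center G) (h2 : orderOf c = 2)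
    (hcm : c ∈ _root_.commutator G) (hle : ¬ _root_.commutator G ≤ zpowers c)
    [(zpowers c).Normal] (hm : IsMetacyclic (G ⧸ zpowers c)) : IsMetacyclic G := by
  obtain ⟨a, b, hn, ht⟩ := H71.isMetacyclic_iff.1 hm
  obtain ⟨a, rfl⟩ := QuotientGroup.mk'_surjective _ a
  obtain ⟨b, rfl⟩ := QuotientGroup.mk'_surjective _ b
  have c2 : c ^ 2 = 1 := h2 ▸ pow_orderOf_eq_one c
  have cc : ∀ g, Commute g c := fun g => mem_center_iff.1 hc g
  have h1 : zpowers a ⊔ zpowers b ⊔ zpowers c = ⊤ := by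
    rw [← MonoidHom.map_zpowers, ← MonoidHom.map_zpowers, ← Subgroup.map_sup] at ht
    have := congrArg (comap (QuotientGroup.mk' (zpowers c))) ht
    rwa [comap_map_eq, QuotientGroup.ker_mk', comap_top] at this
  have h3 : closure ({a, b, c} : Set G) = ⊤ := eq_top_iff.2 (h1 ▸ sup_le (sup_le
    (zpowers_le.2 (subset_closure (by simp))) (zpowers_le.2 (subset_closure (by simp))))
    (zpowers_le.2 (subset_closure (by simp))))
  obtain ⟨k, m, hd⟩ : ∃ k m : ℤ, ⁅b, a⁆ = a ^ k * c ^ m := by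
    obtain ⟨k, hk⟩ := mul_mem (hn.conj_mem _ (mem_zpowers _) (QuotientGroup.mk' _ b))
      (inv_mem (mem_zpowers _))
    have h4 : (a ^ k)⁻¹ * ⁅b, a⁆ ∈ zpowers c := by
      rw [← QuotientGroup.eq]
      simpa [commutatorElement_def] using hk
    obtain ⟨m, hm⟩ := h4
    exact ⟨k, m, by rw [show c ^ m = _ from hm, mul_inv_cancel_left]⟩
  set d := ⁅b, a⁆ with hd'
  have ad : Commute a d := hd ▸ ((Commute.refl a).zpow_right k).mul_right ((cc a).zpow_right m)
  have hb : b * a * b⁻¹ = d * a := by rw [hd', commutatorElement_def]; group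
  haveI : (zpowers d).Normal := normal_zpowers_of_closure_eq_top h3 (by
    rintro g (rfl | rfl | rfl)
    · rw [ad.eq, mul_inv_cancel_right]; exact mem_zpowers d
    · have : g * d * g⁻¹ = d ^ k * d := by
        conv_lhs => rw [hd, ← conj_mul, ← conj_zpow, hb, ad.symm.mul_zpow, ((cc g).zpow_right m).eq,
          mul_inv_cancel_right, mul_assoc, ← hd]
      rw [this]; exact mul_mem (zpow_mem (mem_zpowers d) k) (mem_zpowers d)
    · rw [← (cc d).eq, mul_inv_cancel_right]; exact mem_zpowers d)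
  have h5 : _root_.commutator G ≤ zpowers d := commutator_le_of_closure_eq_top h3 (by
    have k1 : ∀ g, ⁅g, c⁆ ∈ zpowers d := fun g => by
      rw [(cc g).commutator_eq]; exact one_mem _
    have k2 : ∀ g, ⁅c, g⁆ ∈ zpowers d := fun g => by
      rw [(cc g).symm.commutator_eq]; exact one_mem _
    have k3 : ∀ g, ⁅g, g⁆ ∈ zpowers d := fun g => by
      rw [commutatorElement_self]; exact one_mem _
    rintro g (rfl | rfl | rfl) g' (rfl | rfl | rfl)
    any_goals first | exact k1 _ | exact k2 _ | exact k3 _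
    · rw [← commutatorElement_inv]; exact inv_mem (mem_zpowers d)
    · exact mem_zpowers d)
  obtain ⟨j, hj⟩ := h5 hcm
  have hj' : d ^ j = c := hj
  obtain ⟨j, rfl⟩ : Even j := Int.not_odd_iff_even.1 fun k =>
    hle (h5.trans (zpowers_le.2 (mem_of_odd hG k (hj' ▸ mem_zpowers c))))
  have h6 : c ∈ zpowers a := by
    have : d * d = a ^ k * a ^ k := by
      have c3 : c ^ m * c ^ m = 1 := by
        rw [← (Commute.refl c).mul_zpow, ← sq, c2, one_zpow]
      rw [hd, mul_assoc, ← mul_assoc (c ^ m), ← ((cc (a ^ k)).zpow_right m).eq, mul_assoc, c3,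
        mul_one]
    rw [← hj', zpow_add, ← (Commute.refl d).mul_zpow, this]
    exact zpow_mem (mul_mem (zpow_mem (mem_zpowers a) k) (zpow_mem (mem_zpowers a) k)) j
  refine meta_of_commutator_le (a := a) (b := b) (h5.trans (zpowers_le.2 (hd ▸ mul_mem
    (zpow_mem (mem_zpowers a) k) (zpow_mem h6 m)))) ?_
  rwa [sup_eq_left.2 ((zpowers_le.2 h6).trans le_sup_left)] at h1

theorem exists_sq_aux (n : ℕ) : ∀ (G : Type u) [Group G] [Finite G], Nat.card G = n →
    IsPGroup 2 G → ∀ x y : G, Bi x y → ¬ IsMetacyclic G →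
    ∃ s t : ℤ, Odd s ∧ Odd t ∧ (x ^ s * y ^ t) ^ 2 ∈ _root_.commutator G := by
  induction n using Nat.strong_induction_on with
  | _ n ih =>
  rintro G _ _ rfl hG x y h hm
  have h0 : _root_.commutator G ≠ ⊥ := fun e => hm (meta_of_commutator_le (a := x) (b := y)
    (e ▸ bot_le) (h.eq_top (mem_sup_left (mem_zpowers x)) (mem_sup_right (mem_zpowers y))))
  obtain ⟨c, hcm, hc, h2⟩ := H7.exists_mem_center_orderOf hG h0
  by_cases hle : _root_.commutator G ≤ zpowers c
  · exact base hG h hc h2 hcm hle hm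
  haveI := normal_zpowers_of_mem_center hc
  obtain ⟨s, t, hs, ht, h3⟩ := ih _ (by
      rw [card_eq_card_quotient_mul_card_subgroup (zpowers c), Nat.card_zpowers, h2]
      have : 0 < Nat.card (G ⧸ zpowers c) := Nat.card_pos
      omega) (G ⧸ zpowers c) rfl (hG.to_quotient _) _ _
    (h.map (QuotientGroup.mk'_surjective (zpowers c))) fun k => hm (lift hG hc h2 hcm hle k)
  refine ⟨s, t, hs, ht, ?_⟩
  have h4 : _root_.commutator (G ⧸ zpowers c) =
      (_root_.commutator G).map (QuotientGroup.mk' (zpowers c)) := by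
    rw [map_commutator_eq, MonoidHom.range_eq_top.2 (QuotientGroup.mk'_surjective _)]; rfl
  have h5 : (x ^ s * y ^ t) ^ 2 ∈ ((_root_.commutator G).map
      (QuotientGroup.mk' (zpowers c))).comap (QuotientGroup.mk' (zpowers c)) := by
    rw [← h4]; simpa using h3
  rwa [comap_map_eq, QuotientGroup.ker_mk', sup_eq_left.2 (zpowers_le.2 hcm)] at h5

theorem Bi.exists_sq [Finite G] (hG : IsPGroup 2 G) {x y : G} (h : Bi x y)
    (hm : ¬ IsMetacyclic G) :
    ∃ s t : ℤ, Odd s ∧ Odd t ∧ (x ^ s * y ^ t) ^ 2 ∈ _root_.commutator G :=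
  exists_sq_aux _ G rfl hG x y h hm

theorem of_eq_one {g : G} : Abelianization.of g = 1 ↔ g ∈ _root_.commutator G := by
  rw [← MonoidHom.mem_ker, Abelianization.ker_of]

theorem Bi.sq_not_mem [Finite G] (hG : IsPGroup 2 G) {x y : G} (h : Bi x y)
    (hm : ¬ IsMetacyclic G) : x ^ 2 ∉ _root_.commutator G := fun hx => by
  obtain ⟨s, t, -, ht, h1⟩ := h.exists_sq hG hm
  have k : ∀ (a : G) (i : ℤ), a ^ 2 ∈ _root_.commutator G →
      (Abelianization.of a ^ i) ^ 2 = 1 := fun a i ha => by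
    rw [← zpow_natCast, ← zpow_mul, mul_comm, zpow_mul, zpow_natCast, ← map_pow, of_eq_one.2 ha,
      one_zpow]
  have hy : y ^ 2 ∈ _root_.commutator G := mem_of_odd hG ht (by
    rw [← of_eq_one] at h1 ⊢
    rw [map_pow, map_mul, mul_pow, map_zpow, k x s hx, one_mul] at h1
    rw [← h1, ← map_pow, ← zpow_natCast, ← zpow_natCast, ← zpow_mul, ← zpow_mul, mul_comm])
  have hs : Function.Surjective (Abelianization.of : G →* Abelianization G) :=
    QuotientGroup.mk'_surjective _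
  have h2 : Nat.card (Abelianization G) ∣ 2 ^ 2 := H90.card_dvd_sq_of_metacyclic
    (H71.isMetacyclic_iff.2 ⟨_, _, inferInstance, (h.map hs).eq_top
      (mem_sup_left (mem_zpowers _)) (mem_sup_right (mem_zpowers _))⟩) fun g => by
    obtain ⟨i, j, rfl⟩ := h.map hs g
    rw [mul_pow, k x i hx, k y j hy, mul_one]
  obtain ⟨e, he, h3⟩ := (Nat.dvd_prime_pow Nat.prime_two).1 h2
  have h4 : Nat.card (G ⧸ _root_.commutator G) = 2 ^ e := h3
  by_cases h5 : e = 2
  · obtain ⟨a, ha⟩ := exists_cyclic_index_two_aux _ G rfl hG (by rw [index, h4, h5]; rfl)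
    haveI := normal_of_index_eq_two ha
    exact hm ⟨_, this, inferInstance, isCyclic_of_prime_card (p := 2) ha⟩
  · haveI := isCyclic_of_isCyclic_quotient_commutator hG (isCyclic_of_card_dvd_prime (p := 2) (by
      rw [h4]; exact (pow_dvd_pow 2 (show e ≤ 1 by omega)).trans (by simp)))
    exact hm ⟨⊥, inferInstance, inferInstance,
      isCyclic_of_surjective _ (QuotientGroup.mk'_surjective _)⟩

theorem zpow_mem_iff {N : Subgroup G} (hN : N.index = 2) {y : G} (hy : y ∉ N) (j : ℤ) :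
    y ^ j ∈ N ↔ Even j := by
  have k : ∀ i : ℤ, y ^ (i + i) ∈ N := fun i => by
    rw [zpow_add]; exact mul_self_mem_of_index_two hN _
  refine ⟨fun h => Int.not_odd_iff_even.1 ?_, by rintro ⟨i, rfl⟩; exact k i⟩
  rintro ⟨i, rfl⟩
  rw [zpow_add_one, two_mul] at h
  exact hy ((mul_mem_cancel_left (k i)).1 h)

/-- The maximal subgroup containing one of the factors is metacyclic. -/
theorem Bi.meta_of_mem [Finite G] (hG : IsPGroup 2 G) {x y : G} (h : Bi x y)
    (hm : ¬ IsMetacyclic G) {N : Subgroup G} (hN : N.index = 2) (hx : x ∈ N) :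
    IsMetacyclic N := by
  by_contra hc
  have hy : y ∉ N := fun hy => by rw [h.eq_top hx hy, index_top] at hN; omega
  have h1 : Bi (⟨x, hx⟩ : N) ⟨y * y, mul_self_mem_of_index_two hN y⟩ := fun g => by
    obtain ⟨i, j, e⟩ := h g
    obtain ⟨j, rfl⟩ := (zpow_mem_iff hN hy j).1
      ((mul_mem_cancel_left (zpow_mem hx i)).1 (e ▸ g.2))
    exact ⟨i, j, Subtype.ext (by simp [e, zpow_add, (Commute.refl y).mul_zpow])⟩
  obtain ⟨s, t, -, ht, h2⟩ := h.exists_sq hG hm
  obtain ⟨s', t', hs', -, h3⟩ := h1.exists_sq (hG.to_subgroup N) hc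
  have h4 : (x ^ s' * (y * y) ^ t') ^ 2 ∈ _root_.commutator G := by
    have := mem_map_of_mem N.subtype h3
    rw [map_subtype_commutator] at this
    simpa [commutator_def] using commutator_mono le_top le_top this
  refine h.sq_not_mem hG hm (mem_of_odd hG (s := s' * t - 2 * (s * t'))
    ((hs'.mul ht).sub_even (even_two_mul _)) ?_)
  rw [← of_eq_one] at h2 h4 ⊢
  simp only [map_pow, map_mul, map_zpow] at h2 h4 ⊢
  generalize Abelianization.of x = X at *
  generalize Abelianization.of y = Y at *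
  have e : (X ^ 2) ^ (s' * t - 2 * (s * t')) =
      ((X ^ s' * (Y * Y) ^ t') ^ 2) ^ t * (((X ^ s * Y ^ t) ^ 2) ^ (2 * t'))⁻¹ := by
    simp only [← sq, mul_pow, mul_zpow, ← zpow_natCast, ← zpow_mul, mul_inv, ← zpow_neg]
    rw [mul_mul_mul_comm, ← zpow_add, ← zpow_add]
    have : (2 : ℕ) * t' * (2 : ℕ) * t + -(t * (2 : ℕ) * (2 * t')) = 0 := by push_cast; ring
    rw [this, zpow_zero, mul_one]
    congr 1; push_cast; ring
  rw [e, h2, h4]; simp

theorem not_meta {E : Subgroup G} [Finite G] (hE : 4 < Nat.card E) (h2 : ∀ e ∈ E, e * e = 1) :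
    ¬ IsMetacyclic E := fun h => by
  have := Nat.le_of_dvd (by norm_num) (H90.card_dvd_sq_of_metacyclic h (e := 2) fun g =>
    Subtype.ext (by simpa [sq] using h2 g g.2))
  omega

/-- A product of two cyclic 2-groups of rank at least three has exactly one maximal subgroup that is
not metacyclic. -/
theorem Bi.exists_max [Finite G] (hG : IsPGroup 2 G) {x y : G} (h : Bi x y) {E : Subgroup G}
    (hE : 4 < Nat.card E) (h2 : ∀ e ∈ E, e * e = 1) :
    ∃ M : Subgroup G, M.index = 2 ∧ ¬ IsMetacyclic M ∧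
      ∀ Q : Subgroup G, Q ≠ ⊤ → Q ≤ M ∨ IsMetacyclic Q := by
  have hE' := not_meta hE h2
  have hm : ¬ IsMetacyclic G := fun k => hE' (H71.isMetacyclic_of_injective k _ E.subtype_injective)
  have k1 : ∀ Q : Subgroup G, Q ≠ ⊤ → ¬ IsMetacyclic Q →
      ∃ N : Subgroup G, N.index = 2 ∧ Q ≤ N ∧ x ∉ N ∧ y ∉ N := fun Q hQ hQ' => by
    obtain ⟨N, hN, hle⟩ := (eq_top_or_exists_le_coatom Q).resolve_left hQ
    have hi := H8.index_eq_of_coatom_of_isPGroup hG hN
    exact ⟨N, hi, hle, fun k => hQ' (H71.isMetacyclic_of_le (h.meta_of_mem hG hm hi k) hle),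
      fun k => hQ' (H71.isMetacyclic_of_le (h.symm.meta_of_mem hG hm hi k) hle)⟩
  obtain ⟨M, m1, m2, m3, m4⟩ := k1 E (by
    rintro rfl
    exact h.sq_not_mem hG hm (by rw [sq, h2 x trivial]; exact one_mem _)) hE'
  refine ⟨M, m1, fun k => hE' (H71.isMetacyclic_of_le k m2), fun Q hQ => ?_⟩
  refine or_iff_not_imp_right.2 fun hQ' g hg => ?_
  obtain ⟨N, n1, n2, n3, n4⟩ := k1 Q hQ hQ'
  obtain ⟨i, j, rfl⟩ := h g
  have := n2 hg
  rw [mul_mem_iff_of_index_two n1, zpow_mem_iff n1 n3, zpow_mem_iff n1 n4] at this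
  rwa [mul_mem_iff_of_index_two m1, zpow_mem_iff m1 m3, zpow_mem_iff m1 m4]

end Cfsg.Agent.H9.Bic
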