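import Cfsg.Agent.H46.J2Defs

/-!
# The elementary abelian group of order 16 in `J₂`: the abstract part
-/

set_option autoImplicit false
set_option synthInstance.maxSize 100000
open scoped commutatorElement
open Subgroup

namespace Cfsg.Agent.H9.J2W

open Cfsg.Agent.H46.S94

/-- coordinates -/
abbrev P4 := ZMod 2 × ZMod 2 × ZMod 2 × ZMod 2

theorem zm2 : ∀ a : ZMod 2, a = 0 ∨ a = 1 := by decide

theorem P4.ind {R : P4 → Prop} (h : ∀ p q, R p → R q → R (p + q)) (h1 : R (1, 0, 0, 0))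
    (h2 : R (0, 1, 0, 0)) (h3 : R (0, 0, 1, 0)) (h4 : R (0, 0, 0, 1)) (p : P4) : R p := by
  have h0 : R (0, 0, 0, 0) := by
    have := h _ _ h1 h1
    rwa [show ((1, 0, 0, 0) : P4) + (1, 0, 0, 0) = (0, 0, 0, 0) by decide] at this
  obtain ⟨a, b, c, d⟩ := p
  have ha : R (a, 0, 0, 0) := by rcases zm2 a with rfl | rfl <;> assumption
  have hb : R (0, b, 0, 0) := by rcases zm2 b with rfl | rfl <;> assumption
  have hc : R (0, 0, c, 0) := by rcases zm2 c with rfl | rfl <;> assumption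
  have hd : R (0, 0, 0, d) := by rcases zm2 d with rfl | rfl <;> assumption
  simpa using h _ _ (h _ _ ha hb) (h _ _ hc hd)

def Lt (p : P4) : P4 := (p.2.1, p.1 + p.2.1, p.2.2.1, p.2.2.2)
def Ls (p : P4) : P4 := (p.1, p.2.1, p.2.2.2, p.2.2.1 + p.2.2.2)
def Lu (p : P4) : P4 := (p.1, p.2.1, p.2.2.1 + p.1 + p.2.1, p.2.2.2 + p.2.1)
def Lv (p : P4) : P4 := (p.1, p.2.1, p.2.2.1 + p.2.1, p.2.2.2 + p.1)
/-- the coordinates of the line -/
def IZ (p : P4) : Prop := p.1 = 0 ∧ p.2.1 = 0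
instance (p : P4) : Decidable (IZ p) := by unfold IZ; infer_instance

theorem orbZ : ∀ p : P4, IZ p → p ≠ 0 → ∃ i < 3, Ls^[i] (0, 0, 1, 0) = p := by decide
theorem orbZ' : ∀ p : P4, IZ p → p ≠ 0 → ∃ i < 3, Ls^[i] p = (0, 0, 1, 0) := by decide
theorem orbW : ∀ p : P4, ¬ IZ p → ∃ i < 3, ∃ j < 2, ∃ k < 2,
    (Lt^[i] ∘ Lu^[j] ∘ Lv^[k]) (1, 0, 0, 0) = p := by decide
theorem orbW' : ∀ p : P4, ¬ IZ p → ∃ i < 3, ∃ j < 2, ∃ k < 2,
    (Lt^[i] ∘ Lu^[j] ∘ Lv^[k]) p = (1, 0, 0, 0) := by decide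
theorem orbM : ∀ p : P4, ¬ IZ p → ∀ a, IZ a → ∃ j < 2, ∃ k < 2, (Lu^[j] ∘ Lv^[k]) p = p + a := by
  decide
theorem fixZ : ∀ i < 3, ∀ j < 2, ∀ k < 2, ∀ a, IZ a → (Lt^[i] ∘ Lu^[j] ∘ Lv^[k]) a = a := by decide
theorem fixM : ∀ j < 2, ∀ k < 2, ∀ a, (IZ a → (Lu^[j] ∘ Lv^[k]) a = a) ∧
    IZ ((Lu^[j] ∘ Lv^[k]) a + a) := by decide
theorem surW : ∀ i < 3, ∀ j < 2, ∀ k < 2, ∀ a, ∃ b, (Lt^[i] ∘ Lu^[j] ∘ Lv^[k]) b = a := by decide
theorem surZ : ∀ i < 3, ∀ a, ∃ b, Ls^[i] b = a := by decide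

variable {Γ : Type} [Group Γ]

/-- `x ^ a` -/
def pw (x : Γ) (a : ZMod 2) : Γ := if a = 0 then 1 else x

theorem pw_zero (x : Γ) : pw x 0 = 1 := if_pos rfl
theorem pw_one (x : Γ) : pw x 1 = x := if_neg (by decide)

theorem pw_add {x : Γ} (h : x * x = 1) (a b : ZMod 2) : pw x (a + b) = pw x a * pw x b := by
  rcases zm2 a with rfl | rfl <;> rcases zm2 b with rfl | rfl
  · rw [add_zero, pw_zero, one_mul]
  · rw [zero_add, pw_zero, one_mul]
  · rw [add_zero, pw_zero, mul_one]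
  · rw [show (1 : ZMod 2) + 1 = 0 by decide, pw_zero, pw_one, h]

theorem pw_comm {x y : Γ} (h : Commute x y) (a b : ZMod 2) : Commute (pw x a) (pw y b) := by
  rcases zm2 a with rfl | rfl <;> rcases zm2 b with rfl | rfl <;> simp [pw_zero, pw_one, h]

theorem pw_mem {H : Subgroup Γ} {x : Γ} (h : x ∈ H) (a : ZMod 2) : pw x a ∈ H := by
  rcases zm2 a with rfl | rfl
  · rw [pw_zero]; exact one_mem _
  · rwa [pw_one]

/-- the relations -/
structure Rl (z y e f τ σ u v : Γ) : Prop where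
  z1 : z ≠ 1
  e1 : e ≠ 1
  zz : z * z = 1
  yy : y * y = 1
  ee : e * e = 1
  ff : f * f = 1
  uu : u * u = 1
  vv : v * v = 1
  zy : z * y = y * z
  ez : e * z = z * e
  ey : e * y = y * e
  fz : f * z = z * f
  fy : f * y = y * f
  ef : e * f = f * e
  te : τ * e = f * τ
  tf : τ * f = e * f * τ
  tz : τ * z = z * τ
  ty : τ * y = y * τ
  se : σ * e = e * σ
  sf : σ * f = f * σ
  sz : σ * z = y * σ
  sy : σ * y = z * y * σ
  ue : u * e = e * z * u
  uf : u * f = f * (z * y) * u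
  uz : u * z = z * u
  uy : u * y = y * u
  ve : v * e = e * y * v
  vf : v * f = f * z * v
  vz : v * z = z * v
  vy : v * y = y * v
  uv : u * v = v * u

/-- the element with the given coordinates -/
def ps (z y e f : Γ) (p : P4) : Γ := pw e p.1 * pw f p.2.1 * (pw z p.2.2.1 * pw y p.2.2.2)

/-- `g` acts on coordinates by `L` -/
def Ac (z y e f g : Γ) (L : P4 → P4) : Prop := ∀ p, g * ps z y e f p * g⁻¹ = ps z y e f (L p)

variable {z y e f τ σ u v : Γ}

theorem Ac.mul {g g' : Γ} {L L' : P4 → P4} (h : Ac z y e f g L) (h' : Ac z y e f g' L') :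
    Ac z y e f (g * g') (L ∘ L') := fun p => by
  rw [Function.comp_apply, ← h, ← h']; group

theorem Ac.pow {g : Γ} {L : P4 → P4} (h : Ac z y e f g L) (i : ℕ) :
    Ac z y e f (g ^ i) L^[i] := by
  induction i with
  | zero => intro p; simp
  | succ i ih => rw [pow_succ, Function.iterate_succ]; exact ih.mul h

theorem ps_mem (p : P4) : ps z y e f p ∈ closure {e, f} ⊔ Z2 z y :=
  mul_mem (mem_sup_left (mul_mem (pw_mem (subset_closure (by simp)) _)
    (pw_mem (subset_closure (by simp)) _)))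
    (mem_sup_right (mul_mem (pw_mem (subset_closure (by simp)) _)
      (pw_mem (subset_closure (by simp)) _)))

theorem ps_memZ {p : P4} (hp : IZ p) : ps z y e f p ∈ Z2 z y := by
  rw [ps, hp.1, hp.2, pw_zero, pw_zero, one_mul, one_mul]
  exact mul_mem (pw_mem (subset_closure (by simp)) _) (pw_mem (subset_closure (by simp)) _)

theorem ps_e : ps z y e f (1, 0, 0, 0) = e := by simp [ps, pw_zero, pw_one]
theorem ps_f : ps z y e f (0, 1, 0, 0) = f := by simp [ps, pw_zero, pw_one]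
theorem ps_z : ps z y e f (0, 0, 1, 0) = z := by simp [ps, pw_zero, pw_one]
theorem ps_y : ps z y e f (0, 0, 0, 1) = y := by simp [ps, pw_zero, pw_one]
theorem ps_zero : ps z y e f 0 = 1 := by simp [ps, pw_zero]

namespace Rl

variable (h : Rl z y e f τ σ u v)
include h

theorem add (p q : P4) : ps z y e f (p + q) = ps z y e f p * ps z y e f q := by
  simp only [ps, Prod.fst_add, Prod.snd_add]
  rw [pw_add h.ee, pw_add h.ff, pw_add h.zz, pw_add h.yy,
    (pw_comm (show Commute e f from h.ef) _ _).mul_mul_mul_comm,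
    (pw_comm (show Commute z y from h.zy) _ _).mul_mul_mul_comm]
  refine Commute.mul_mul_mul_comm ?_ _ _
  exact ((pw_comm (show Commute e z from h.ez) _ _).mul_right
    (pw_comm (show Commute e y from h.ey) _ _)).mul_left
    ((pw_comm (show Commute f z from h.fz) _ _).mul_right (pw_comm (show Commute f y from h.fy) _ _))

theorem ac_of {g : Γ} {L : P4 → P4} (hL : ∀ p q, L (p + q) = L p + L q)
    (h1 : g * e = ps z y e f (L (1, 0, 0, 0)) * g) (h2 : g * f = ps z y e f (L (0, 1, 0, 0)) * g)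
    (h3 : g * z = ps z y e f (L (0, 0, 1, 0)) * g) (h4 : g * y = ps z y e f (L (0, 0, 0, 1)) * g) :
    Ac z y e f g L := by
  refine P4.ind (fun p q hp hq => ?_) ?_ ?_ ?_ ?_
  · rw [hL, h.add, h.add, ← hp, ← hq]; group
  · rw [ps_e, h1, mul_inv_cancel_right]
  · rw [ps_f, h2, mul_inv_cancel_right]
  · rw [ps_z, h3, mul_inv_cancel_right]
  · rw [ps_y, h4, mul_inv_cancel_right]

theorem act : Ac z y e f τ Lt :=
  h.ac_of (by decide) (by simp [Lt, ps, pw_zero, pw_one, h.te]) (by simp [Lt, ps, pw_zero, pw_one, h.tf])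
    (by simp [Lt, ps, pw_zero, pw_one, h.tz]) (by simp [Lt, ps, pw_zero, pw_one, h.ty])

theorem acs : Ac z y e f σ Ls :=
  h.ac_of (by decide) (by simp [Ls, ps, pw_zero, pw_one, h.se]) (by simp [Ls, ps, pw_zero, pw_one, h.sf])
    (by simp [Ls, ps, pw_zero, pw_one, h.sz]) (by simp [Ls, ps, pw_zero, pw_one, h.sy])

theorem acu : Ac z y e f u Lu :=
  h.ac_of (by decide) (by simp [Lu, ps, pw_zero, pw_one, h.ue]) (by simp [Lu, ps, pw_zero, pw_one, h.uf])
    (by simp [Lu, ps, pw_zero, pw_one, h.uz]) (by simp [Lu, ps, pw_zero, pw_one, h.uy])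

theorem acv : Ac z y e f v Lv :=
  h.ac_of (by decide) (by simp [Lv, ps, pw_zero, pw_one, h.ve]) (by simp [Lv, ps, pw_zero, pw_one, h.vf])
    (by simp [Lv, ps, pw_zero, pw_one, h.vz]) (by simp [Lv, ps, pw_zero, pw_one, h.vy])

theorem acw (i j k : ℕ) : Ac z y e f (τ ^ i * (u ^ j * v ^ k)) (Lt^[i] ∘ Lu^[j] ∘ Lv^[k]) :=
  (h.act.pow i).mul ((h.acu.pow j).mul (h.acv.pow k))

theorem eq_zero {p : P4} (hp : ps z y e f p = 1) : p = 0 := by
  by_contra h0
  by_cases hz : IZ p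
  · obtain ⟨i, -, hi⟩ := orbZ' p hz h0
    have := h.acs.pow i p
    rw [hp, hi, ps_z] at this
    exact h.z1 (by rw [← this]; group)
  · obtain ⟨i, -, j, -, k, -, hi⟩ := orbW' p hz
    have := h.acw i j k p
    rw [hp, hi, ps_e] at this
    exact h.e1 (by rw [← this]; group)

theorem sq (p : P4) : ps z y e f p * ps z y e f p = 1 := by
  rw [← h.add, (by decide : ∀ p : P4, p + p = 0) p, ps_zero]

theorem inj : Function.Injective (ps z y e f) := fun p q hpq => by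
  have : ps z y e f (p + q) = 1 := by rw [h.add, hpq, h.sq]
  exact (by decide : ∀ p q : P4, p + q = 0 → p = q) p q (h.eq_zero this)

theorem inv (p : P4) : (ps z y e f p)⁻¹ = ps z y e f p := inv_eq_of_mul_eq_one_right (h.sq p)

/-- the elements whose coordinates satisfy `R` -/
def sub (R : P4 → Prop) (h0 : R 0) (ha : ∀ p q, R p → R q → R (p + q)) : Subgroup Γ where
  carrier := {w | ∃ p, R p ∧ ps z y e f p = w}
  one_mem' := ⟨0, h0, ps_zero⟩
  mul_mem' := by
    rintro _ _ ⟨p, hp, rfl⟩ ⟨q, hq, rfl⟩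
    exact ⟨p + q, ha p q hp hq, h.add p q⟩
  inv_mem' := by
    rintro _ ⟨p, hp, rfl⟩
    exact ⟨p, hp, (h.inv p).symm⟩

theorem exZ {w : Γ} (hw : w ∈ Z2 z y) : ∃ p, IZ p ∧ ps z y e f p = w := by
  have : Z2 z y ≤ h.sub IZ (by decide) (by decide) := by
    rw [closure_le]
    rintro _ (rfl | rfl)
    exacts [⟨_, by decide, ps_z⟩, ⟨_, by decide, ps_y⟩]
  exact this hw

theorem exW {w : Γ} (hw : w ∈ closure {e, f} ⊔ Z2 z y) : ∃ p, ps z y e f p = w := by
  have : closure {e, f} ⊔ Z2 z y ≤ h.sub (fun _ => True) trivial (fun _ _ _ _ => trivial) := by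
    refine sup_le ?_ ?_ <;> rw [closure_le] <;> rintro _ (rfl | rfl)
    exacts [⟨_, trivial, ps_e⟩, ⟨_, trivial, ps_f⟩, ⟨_, trivial, ps_z⟩, ⟨_, trivial, ps_y⟩]
  obtain ⟨p, -, hp⟩ := this hw
  exact ⟨p, hp⟩

theorem memZ {p : P4} : ps z y e f p ∈ Z2 z y ↔ IZ p :=
  ⟨fun hp => by
    obtain ⟨q, hq, e⟩ := h.exZ hp
    exact h.inj e ▸ hq, ps_memZ⟩

theorem nrm {g : Γ} {L : P4 → P4} (hg : Ac z y e f g L) (hL : ∀ a, ∃ b, L b = a) :
    g ∈ normalizer ((closure {e, f} ⊔ Z2 z y : Subgroup Γ) : Set Γ) := by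
  rw [mem_normalizer_iff]
  intro w
  constructor
  · intro hw
    obtain ⟨p, rfl⟩ := h.exW hw
    rw [hg]; exact ps_mem _
  · intro hw
    obtain ⟨p, hp⟩ := h.exW hw
    obtain ⟨q, rfl⟩ := hL p
    rw [← hg] at hp
    have : ps z y e f q = w := by simpa using hp
    exact this ▸ ps_mem _

theorem cardW : Nat.card ↥(closure {e, f} ⊔ Z2 z y) = 16 := by
  have : Function.Bijective fun p : P4 => (⟨ps z y e f p, ps_mem p⟩ : ↥(closure {e, f} ⊔ Z2 z y)) :=
    ⟨fun p q hpq => h.inj (congrArg Subtype.val hpq), fun w => (h.exW w.2).imp fun _ hp =>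
      Subtype.ext hp⟩
  rw [← Nat.card_eq_of_bijective _ this, Nat.card_eq_fintype_card]; rfl

theorem cardZ : Nat.card ↥(Z2 z y) = 4 := by
  have : Function.Bijective fun p : {p : P4 // IZ p} => (⟨ps z y e f p, ps_memZ p.2⟩ : ↥(Z2 z y)) :=
    ⟨fun p q hpq => Subtype.ext (h.inj (congrArg Subtype.val hpq)), fun w => by
      obtain ⟨p, hp, e⟩ := h.exZ w.2
      exact ⟨⟨p, hp⟩, Subtype.ext e⟩⟩
  rw [← Nat.card_eq_of_bijective _ this, Nat.card_eq_fintype_card]; decide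

theorem wf (cm : z ∈ ⁅Cz z, Cz z⁆)
    (cov : ∀ a : Γ, a * a = 1 → a ≠ 1 → ∃ c, c * a * c⁻¹ = z ∨ c * a * c⁻¹ = e)
    (key : ∀ α : MulAut Γ, α e = e → α f = f ∨ α f = e * f) :
    WF z (Z2 z y) (closure {e, f} ⊔ Z2 z y) where
  el w hw := by obtain ⟨p, rfl⟩ := h.exW hw; exact h.sq p
  card := h.cardW
  ZW := le_sup_right
  cZ := h.cardZ
  zZ := subset_closure (by simp)
  z1 := h.z1
  cm := cm
  cov a ha := by
    by_cases h1 : a = 1
    · exact ⟨1, by simp [h1]⟩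
    obtain ⟨c, hc | hc⟩ := cov a ha h1
    · exact ⟨c, hc ▸ mem_sup_right (subset_closure (by simp))⟩
    · exact ⟨c, hc ▸ mem_sup_left (subset_closure (by simp))⟩
  trZ a ha h1 := by
    obtain ⟨p, hp, rfl⟩ := h.exZ ha
    obtain ⟨i, hi, rfl⟩ := orbZ p hp (fun h0 => h1 (by rw [h0, ps_zero]))
    exact ⟨σ ^ i, h.nrm (h.acs.pow i) (surZ i hi), by rw [← h.acs.pow i, ps_z]⟩
  trW a ha ha' b hb hb' := by
    obtain ⟨p, rfl⟩ := h.exW ha
    obtain ⟨q, rfl⟩ := h.exW hb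
    obtain ⟨i, hi, j, hj, k, hk, e1⟩ := orbW' p (fun hp => ha' (ps_memZ hp))
    obtain ⟨i', hi', j', hj', k', hk', e2⟩ := orbW q (fun hp => hb' (ps_memZ hp))
    refine ⟨_, mul_mem (h.nrm (h.acw i' j' k') (surW _ hi' _ hj' _ hk'))
      (h.nrm (h.acw i j k) (surW _ hi _ hj _ hk)), ?_⟩
    rw [(h.acw i' j' k').mul (h.acw i j k), Function.comp_apply, e1, e2]
  mv a ha ha' b hb := by
    obtain ⟨p, rfl⟩ := h.exW ha
    obtain ⟨q, hq, rfl⟩ := h.exZ hb
    obtain ⟨j, hj, k, hk, e1⟩ := orbM p (fun hp => ha' (ps_memZ hp)) q hq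
    have A := (h.acu.pow j).mul (h.acv.pow k)
    refine ⟨u ^ j * v ^ k, fun c hc => ?_, fun w hw => ?_, by rw [A, e1, h.add]⟩
    · obtain ⟨r, hr, rfl⟩ := h.exZ hc
      have := A r
      rw [(fixM j hj k hk r).1 hr] at this
      exact mul_inv_eq_iff_eq_mul.1 this
    · obtain ⟨r, rfl⟩ := h.exW hw
      rw [A, ← h.add]
      exact ps_memZ (fixM j hj k hk r).2
  fix α hZ hW a ha ha' hα w hw := by
    obtain ⟨p, rfl⟩ := h.exW ha
    obtain ⟨i, hi, j, hj, k, hk, rfl⟩ := orbW p (fun hp => ha' (ps_memZ hp))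
    have A := h.acw i j k
    have F := fixZ i hi j hj k hk
    obtain ⟨q, rfl⟩ := h.exW hw
    obtain ⟨q, rfl⟩ := surW i hi j hj k hk q
    generalize τ ^ i * (u ^ j * v ^ k) = n at A
    generalize Lt^[i] ∘ Lu^[j] ∘ Lv^[k] = L at A F hα ha ha' hw
    let β : MulAut Γ := MulAut.conj n⁻¹ * α * MulAut.conj n
    have hβ : ∀ r, β (ps z y e f r) = n⁻¹ * α (ps z y e f (L r)) * n := fun r => by
      rw [← A]; simp [β]
    have hβ' : ∀ r, β (ps z y e f r) = ps z y e f r ↔ α (ps z y e f (L r)) = ps z y e f (L r) :=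
      fun r => by
        rw [hβ]
        constructor
        · intro h1
          calc α (ps z y e f (L r)) = n * (n⁻¹ * α (ps z y e f (L r)) * n) * n⁻¹ := by group
            _ = _ := by rw [h1, A]
        · intro h1
          rw [h1, ← A r]; group
    have h1 : β e = e := by have := (hβ' _).2 hα; rwa [ps_e] at this
    have hz : ∀ r, IZ r → β (ps z y e f r) = ps z y e f r := fun r hr =>
      (hβ' r).2 (by rw [F r hr]; exact hZ _ (ps_memZ hr))
    have h2 : β f = f := by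
      refine (key β h1).resolve_right fun h2 => ?_
      obtain ⟨r, hr, e1⟩ := h.exZ (hW _ (ps_mem (L (0, 1, 0, 0))))
      have e2 : n⁻¹ * ps z y e f r * n = e := by
        rw [e1, show n⁻¹ * (α (ps z y e f (L (0, 1, 0, 0))) * ps z y e f (L (0, 1, 0, 0))) * n =
          (n⁻¹ * α (ps z y e f (L (0, 1, 0, 0))) * n) * (n⁻¹ * ps z y e f (L (0, 1, 0, 0)) * n) by
            group, ← hβ, ← A, ps_f, h2]
        calc e * f * (n⁻¹ * (n * f * n⁻¹) * n) = e * (f * f) := by group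
          _ = e := by rw [h.ff, mul_one]
      have e3 : ps z y e f r = e := by
        have := A r
        rw [F r hr] at this
        calc ps z y e f r = n⁻¹ * (n * ps z y e f r * n⁻¹) * n := by group
          _ = e := by rw [this, e2]
      have := h.inj (e3.trans ps_e.symm)
      rw [this] at hr
      exact absurd hr (by decide)
    refine (hβ' q).1 (P4.ind (R := fun r => β (ps z y e f r) = ps z y e f r) ?_ ?_ ?_
      (hz _ (by decide)) (hz _ (by decide)) q)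
    · intro r s hr hs
      rw [h.add, map_mul, hr, hs]
    · rw [ps_e, h1]
    · rw [ps_f, h2]

theorem uf' : UF z y e u v (closure {e, f} ⊔ Z2 z y) := by
  have iu : u⁻¹ = u := inv_eq_of_mul_eq_one_right h.uu
  have iv : v⁻¹ = v := inv_eq_of_mul_eq_one_right h.vv
  refine ⟨mem_sup_left (subset_closure (by simp)), h.uu, h.vv, h.uv, fun a ha => ?_, fun a ha => ?_,
    fun w hw => ?_, fun w hw => ?_, ?_, ?_⟩
  · obtain ⟨r, hr, rfl⟩ := h.exZ ha
    have := h.acu r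
    rw [(by decide : ∀ r, IZ r → Lu r = r) r hr] at this
    exact mul_inv_eq_iff_eq_mul.1 this
  · obtain ⟨r, hr, rfl⟩ := h.exZ ha
    have := h.acv r
    rw [(by decide : ∀ r, IZ r → Lv r = r) r hr] at this
    exact mul_inv_eq_iff_eq_mul.1 this
  · obtain ⟨r, rfl⟩ := h.exW hw
    have := h.acu r
    rw [iu] at this
    rw [this, ← h.add]
    exact ps_memZ ((by decide : ∀ r, IZ (Lu r + r)) r)
  · obtain ⟨r, rfl⟩ := h.exW hw
    have := h.acv r
    rw [iv] at this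
    rw [this, ← h.add]
    exact ps_memZ ((by decide : ∀ r, IZ (Lv r + r)) r)
  · rw [h.ue, mul_assoc, h.uu, mul_one]
  · rw [h.ve, mul_assoc, h.vv, mul_one]

end Rl

end Cfsg.Agent.H9.J2W
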