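import Mathlib
import Cfsg.Agent.H69.SecRank
import Cfsg.Prelude.Def_Involutions

/-!
Interfaces for simple groups acting with fixity four.
-/

set_option autoImplicit false

namespace Cfsg.Agent.H9.FX

open Subgroup Cfsg.Agent.H69

universe u v

/-- The transfer template: `K ≤ M₀ ≤ M`, the `p`-elements of `K` are TI. -/
def TStmt : Prop :=
  ∀ (G : Type u) [Group G] [Finite G] (p : ℕ) [Fact p.Prime] (P : Sylow p G) (K M₀ M : Subgroup G),
    _root_.commutator G = ⊤ → K ≤ M₀ → M₀ ≤ M → M ≤ normalizer (K : Set G) →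
    M ≤ normalizer (M₀ : Set G) → M₀.relIndex M = p → ¬ p ∣ K.relIndex M₀ → p ∣ Nat.card K →
    ¬ p ∣ ((P : Subgroup G) ⊓ M).relIndex M →
    (∀ g k : G, k ∈ K → orderOf k = p → g * k * g⁻¹ ∈ K → g ∈ M) →
    ∃ x ∈ (P : Subgroup G), orderOf x = p ∧ (∃ g : G, g * x * g⁻¹ ∈ K) ∧
      Nat.card ↥((P : Subgroup G) ⊓ centralizer ({x} : Set G)) = p ^ 2 ∧
      ∀ y ∈ (P : Subgroup G) ⊓ centralizer ({x} : Set G), y ^ p = 1

/-- Sylow 3-subgroups with an element whose centralizer has order 9. -/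
def Y3Stmt : Prop :=
  ∀ (G : Type u) [Group G] [Finite G] (P : Sylow 3 G) (x : G), _root_.commutator G = ⊤ →
    x ∈ (P : Subgroup G) → Nat.card ↥((P : Subgroup G) ⊓ centralizer ({x} : Set G)) = 9 →
    Nat.card (P : Subgroup G) ≠ 9 →
    (∃ T : Sylow 3 (Equiv.Perm (Fin 9)),
      Nonempty ((P : Subgroup G) ≃* (T : Subgroup (Equiv.Perm (Fin 9))))) ∨
    ∃ n ∈ normalizer ((P : Subgroup G) : Set G), n * x * n⁻¹ = x⁻¹

/-- Two subgroups of order four, one of them TI in the Sylow subgroup. -/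
def TGStmt : Prop :=
  ∀ (G : Type u) [Group G] [Finite G] (S : Sylow 2 G) (U W F : Subgroup G),
    U ≤ F → W ≤ F → F ≤ (S : Subgroup G) → F ≤ normalizer (U : Set G) →
    F ≤ normalizer (W : Set G) → Nat.card U = 4 → Nat.card W = 4 → U ⊓ W = ⊥ →
    Nat.card F ≤ 32 →
    (∀ s ∈ (S : Subgroup G), ∀ x ∈ U, x ≠ 1 → s * x * s⁻¹ ∈ U → s ∈ F) →
    (∀ y ∈ F, (∀ w ∈ W, y * w * y⁻¹ * w⁻¹ ∈ U) → y ∈ U ⊔ W) →
    (∀ y ∈ F, (∀ x ∈ U, y * x * y⁻¹ * x⁻¹ ∈ W) → y ∈ U ⊔ W) →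
    (F ≠ U ⊔ W → (∃ y ∈ F, y ∉ U ⊔ W ∧ y * y ∈ U) ∧ ∃ y ∈ F, y ∉ U ⊔ W ∧ y * y ∈ W) →
    SecLE 16 G

/-- An involution with a small fully centralized centralizer. -/
def I4Stmt : Prop :=
  ∀ (G : Type u) [Group G] [Finite G] (S : Sylow 2 G) (t : G), (∀ H : Subgroup G, H.index ≠ 2) →
    t ∈ (S : Subgroup G) → orderOf t = 2 →
    ¬ 2 ∣ ((S : Subgroup G) ⊓ centralizer ({t} : Set G)).relIndex (centralizer ({t} : Set G)) →
    Nat.card ↥((S : Subgroup G) ⊓ centralizer ({t} : Set G)) ≤ 16 →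
    (IsMulCommutative ↥((S : Subgroup G) ⊓ centralizer ({t} : Set G)) →
      Nat.card ↥((S : Subgroup G) ⊓ centralizer ({t} : Set G)) ≤ 8) →
    SecLE 16 G

/-- An involution with four fixed points. -/
def F4Stmt : Prop :=
  ∀ (G : Type u) (Ω : Type v) [Group G] [Finite G] [IsSimpleGroup G] [MulAction G Ω]
    [FaithfulSMul G Ω] [Finite Ω], ¬ IsMulCommutative G → MulAction.IsPretransitive G Ω →
    (∀ g : G, g ≠ 1 → Nat.card (MulAction.fixedBy Ω g) ≤ 4) →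
    ∀ t : G, orderOf t = 2 → Nat.card (MulAction.fixedBy Ω t) = 4 →
    (∃ H : Subgroup G, Cfsg.IsStronglyEmbedded H) ∨ SecLE 16 G

end Cfsg.Agent.H9.FX
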