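import Cfsg.Agent.H78.G40A

/-! Project L40G (S3140): invariant Sylow subgroups (DIH). -/

set_option autoImplicit false

namespace Cfsg.Agent.H9.G40Dih

open Subgroup Cfsg.Agent.H83 Cfsg.Agent.H78.G40

universe u

variable {G : Type u} [Group G]

theorem mem_sup_two {K : Subgroup G} {t : G} (tt : t * t = 1) (ht : t ∈ normalizer (K : Set G))
    {x : G} (hx : x ∈ K ⊔ zpowers t) : x ∈ K ∨ x * t ∈ K := by
  have ti : t⁻¹ = t := inv_eq_of_mul_eq_one_right tt
  have hc : ∀ k ∈ K, t * k * t ∈ K := fun k hk => by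
    have := (mem_normalizer_iff.1 ht k).1 hk
    rwa [ti] at this
  let L : Subgroup G :=
    { carrier := {x | x ∈ K ∨ x * t ∈ K}
      one_mem' := Or.inl K.one_mem
      mul_mem' := by
        rintro a b (ha | ha) (hb | hb)
        · exact Or.inl (mul_mem ha hb)
        · exact Or.inr (by rw [mul_assoc]; exact mul_mem ha hb)
        · refine Or.inr ?_
          have := mul_mem ha (hc b hb)
          rwa [show a * t * (t * b * t) = a * (t * t) * b * t by group, tt, mul_one] at this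
        · refine Or.inl ?_
          have := mul_mem ha (hc _ hb)
          rwa [show a * t * (t * (b * t) * t) = a * (t * t) * b * (t * t) by group, tt, mul_one,
            mul_one] at this
      inv_mem' := by
        rintro a (ha | ha)
        · exact Or.inl (inv_mem ha)
        · refine Or.inr ?_
          have := hc _ (inv_mem ha)
          rwa [mul_inv_rev, ← mul_assoc, mul_inv_cancel, one_mul] at this }
  have hle : K ⊔ zpowers t ≤ L := sup_le (fun x hx => Or.inl hx)
    ((zpowers_le (H := L)).2 (Or.inr (tt ▸ K.one_mem)))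
  exact hle hx

theorem two_zpowers {t : G} (tt : t * t = 1) : IsPGroup 2 (zpowers t) := by
  rintro ⟨x, k, rfl⟩
  refine ⟨1, Subtype.ext ?_⟩
  change (t ^ k) ^ 2 ^ 1 = 1
  rw [pow_one, ← zpow_natCast, ← zpow_mul, mul_comm, zpow_mul, zpow_natCast, pow_two, tt, one_zpow]

theorem exists_norm [Finite G] {B S : Subgroup G} (hS : IsPGroup 2 S) (h : B ≤ S) (hn : ¬ S ≤ B) :
    ∃ g ∈ S, g ∉ B ∧ g ∈ normalizer (B : Set G) := by
  haveI : Fact (Nat.Prime 2) := ⟨Nat.prime_two⟩
  haveI := hS.isNilpotent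
  have h1 : B.subgroupOf S < ⊤ := lt_top_iff_ne_top.2 fun e => hn (subgroupOf_eq_top.1 e)
  obtain ⟨g, hg, hg'⟩ := SetLike.exists_of_lt (Group.normalizerCondition_of_isNilpotent _ h1)
  rw [← subgroupOf_normalizer_eq h] at hg
  exact ⟨g, g.2, hg', hg⟩

theorem dih : DihS.{u} := by
  intro G _ _ R F t hF N hN htN
  haveI : Fact (Nat.Prime 2) := ⟨Nat.prime_two⟩
  have tt := hF.tt
  have htn : t ∉ N := fun h => hF.tF (hN h)
  refine ⟨fun A htA hA => ?_, ?_⟩
  · have hB : IsPGroup 2 (A ⊔ zpowers t : Subgroup G) :=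
      hA.isPGroup.to_sup_of_normal_left' (two_zpowers tt) (zpowers_le.2 htA)
    have hAN : A ≤ N := hA.le.trans inf_le_left
    obtain ⟨S, hS, hBS⟩ := exists_isSylowIn_ge (sup_le_sup_right hAN (zpowers t)) hB
    have hP := hS.inf_normal le_sup_left (sup_le le_normalizer (zpowers_le.2 htN))
    have htB : t ∈ A ⊔ zpowers t := mem_sup_right (mem_zpowers t)
    have hBN : ∀ x ∈ A ⊔ zpowers t, x ∈ N → x ∈ A := fun x hx hxN =>
      (mem_sup_two tt htA hx).resolve_right fun h =>
        htn ((N.mul_mem_cancel_left hxN).1 (hAN h))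
    suffices h : S ≤ A ⊔ zpowers t by
      have e : S ⊓ N = A := le_antisymm (fun x hx => hBN x (h hx.1) hx.2)
        (le_inf (le_sup_left.trans hBS) hAN)
      exact e ▸ hP
    by_contra hn
    obtain ⟨g, hgS, hgB, hg⟩ := exists_norm hS.isPGroup hBS hn
    obtain ⟨w, hwS, hwB, hw, hwN⟩ : ∃ w ∈ S, w ∉ A ⊔ zpowers t ∧
        w ∈ normalizer ((A ⊔ zpowers t : Subgroup G) : Set G) ∧ w ∈ N := by
      rcases mem_sup_two tt htN (hS.le hgS) with h | h
      · exact ⟨g, hgS, hgB, hg, h⟩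
      · exact ⟨g * t, mul_mem hgS (hBS htB), fun h' => hgB ((mul_mem_cancel_right htB).1 h'),
          mul_mem hg (le_normalizer htB), h⟩
    have e : (A ⊔ zpowers t) ⊓ N = A :=
      le_antisymm (fun x hx => hBN x hx.1 hx.2) (le_inf le_sup_left hAN)
    have hwA : w ∈ normalizer (A : Set G) := by
      have := inf_normalizer_le_normalizer_inf ⟨hw, le_normalizer hwN⟩
      rwa [e] at this
    have hp : w * t * w⁻¹ * t ∈ A := by
      refine (mem_sup_two tt htA ((mem_normalizer_iff.1 hw t).1 htB)).resolve_left fun h => htn ?_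
      have := mul_mem (mul_mem (inv_mem hwN) (hAN h)) hwN
      rwa [show w⁻¹ * (w * t * w⁻¹) * w = t by group] at this
    have hwP : w ∈ PP R := hF.uf w (hN hwN) _ (mem_sup_left (hA.le hp).2)
      (by rw [mul_assoc _ t t, tt, mul_one])
    obtain ⟨k, hk⟩ := hS.isPGroup ⟨w, hwS⟩
    have hk' : w ^ 2 ^ k = 1 := congrArg Subtype.val hk
    exact hwB (mem_sup_left (hA.mem_of_norm ⟨hwN, hF.two w hwP ⟨k, hk'⟩⟩ hk' hwA))
  · have hK : t ∈ normalizer ((N ⊓ R : Subgroup G) : Set G) :=
      inf_normalizer_le_normalizer_inf ⟨htN, hF.tN⟩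
    obtain ⟨S, hS, hle⟩ := exists_isSylowIn_ge (le_sup_right (a := N ⊓ R)) (two_zpowers tt)
    exact ⟨S ⊓ (N ⊓ R), inf_normalizer_le_normalizer_inf ⟨le_normalizer (hle (mem_zpowers t)), hK⟩,
      hS.inf_normal le_sup_left (sup_le le_normalizer (zpowers_le.2 hK))⟩

end Cfsg.Agent.H9.G40Dih
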