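import Cfsg.Agent.H9.Bicyc
import Cfsg.Agent.H56.Radical
import Cfsg.Agent.H97.Meta2
import Cfsg.Agent.H8.Fusion
import Cfsg.Agent.S0112

/-!
# Perfect groups whose Sylow 2-subgroups are products of two cyclic groups
-/

set_option autoImplicit false

namespace Cfsg.Agent.H9.Bic

open Subgroup Cfsg.Agent.H85 Cfsg.Agent.H56
open scoped commutatorElement

variable {G : Type*} [Group G] [Finite G]

theorem exists_four (hG : IsPGroup 2 G) {E : Subgroup G} (hE : 4 < Nat.card E)
    (h2 : ∀ e ∈ E, e * e = 1) : ∃ U : Subgroup G, Nat.card U = 4 ∧ (∀ u ∈ U, u * u = 1) ∧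
      (∀ u ∈ U, ∀ g, ⁅u, g⁆ ∈ center G ∧ ⁅u, g⁆ * ⁅u, g⁆ = 1) ∧
      ∃ g, g * g = 1 ∧ g ∈ centralizer (U : Set G) ∧ g ∉ U := by
  obtain ⟨U, hn, hU⟩ := exists_normal_four_of_rank hG hE h2
  have c4 : Nat.card U = 4 := hU.card_four
  have sq : ∀ u ∈ U, u * u = 1 := fun u hu =>
    congrArg Subtype.val (IsKleinFour.mul_self (⟨u, hu⟩ : U))
  have w2 : Nat.card (⁅U, (⊤ : Subgroup G)⁆ : Subgroup G) ≤ 2 := by
    simpa using H7.card_commutator_le hG (M := U) (k := 1) c4.le
  have wc : ∀ u ∈ U, ∀ g, ⁅u, g⁆ ∈ center G := fun u hu g =>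
    H7.le_center_of_card_le hG w2 (commutator_mem_commutator hu (mem_top g))
  refine ⟨U, c4, sq, fun u hu g => ⟨wc u hu g, sq _ (commutator_le_left U ⊤
    (commutator_mem_commutator hu (mem_top g)))⟩, ?_⟩
  by_contra hc
  push Not at hc
  obtain ⟨z, hz, hzc, z2⟩ := H7.exists_mem_center_orderOf hG (M := U) (by
    rintro rfl; simp at c4)
  obtain ⟨u, hu, huz⟩ : ∃ u ∈ U, u ∉ zpowers z := by
    by_contra k
    push Not at k
    have := card_le_of_le (show U ≤ zpowers z from k)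
    rw [Nat.card_zpowers] at this
    omega
  let ψ : E →* (⁅U, (⊤ : Subgroup G)⁆ : Subgroup G) := MonoidHom.mk'
    (fun e => ⟨⁅u, (e : G)⁆, commutator_mem_commutator hu (mem_top _)⟩) fun a b => Subtype.ext (by
      show ⁅u, (a : G) * b⁆ = ⁅u, (a : G)⁆ * ⁅u, (b : G)⁆
      calc ⁅u, (a : G) * b⁆ = ⁅u, (a : G)⁆ * (a * ⁅u, (b : G)⁆) * (a : G)⁻¹ := by
            simp only [commutatorElement_def]; group
        _ = _ := by rw [mem_center_iff.1 (wc u hu b)]; group)
  have k1 : ψ.ker ≤ U.subgroupOf E := fun e he => hc e (h2 e e.2) fun w hw => by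
    have h3 : u * e = e * u := commutatorElement_eq_one_iff_mul_comm.1 (congrArg Subtype.val he)
    have h4 : z * e = e * z := (mem_center_iff.1 hzc e).symm
    by_cases e1 : w = 1
    · simp [e1]
    by_cases e2 : w = z
    · rw [e2, h4]
    by_cases e3 : w = u
    · rw [e3, h3]
    have h5 := congrArg Subtype.val (IsKleinFour.eq_mul_of_ne_all (G := U) (x := ⟨z, hz⟩)
      (y := ⟨u, hu⟩) (z := ⟨w, hw⟩) (fun k => by
        rw [show z = 1 from congrArg Subtype.val k, orderOf_one] at z2; omega)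
      (fun k => huz (by rw [show u = 1 from congrArg Subtype.val k]; exact one_mem _))
      (fun k => huz (by rw [← show z = u from congrArg Subtype.val k]; exact mem_zpowers z))
      (fun k => e1 (congrArg Subtype.val k)) (fun k => e2 (congrArg Subtype.val k))
      (fun k => e3 (congrArg Subtype.val k)))
    rw [show w = z * u from h5, mul_assoc, h3, ← mul_assoc, h4, mul_assoc]
  have k2 : ψ.ker.index ≤ 2 := by
    rw [index_ker]; exact (Subgroup.card_le_card_group _).trans w2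
  have k3 := ψ.ker.card_mul_index
  have k4 := card_le_of_le k1
  have k5 : Nat.card (U.subgroupOf E) = Nat.card (U ⊓ E : Subgroup G) := by
    rw [← subgroupOf_map_subtype, card_map_of_injective E.subtype_injective]
  have k6 : Nat.card (U ⊓ E : Subgroup G) ∣ 2 ^ 2 :=
    (card_dvd_of_le inf_le_left).trans (by rw [c4]; rfl)
  have k7 : Nat.card (U ⊓ E : Subgroup G) = 4 := by
    obtain ⟨i, hi, h⟩ := (Nat.dvd_prime_pow Nat.prime_two).1 k6
    have : 4 < Nat.card (U ⊓ E : Subgroup G) * 2 := by nlinarith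
    interval_cases i <;> omega
  have k8 : U ≤ E := inf_eq_left.1 (eq_of_le_of_card_ge inf_le_left (by omega))
  have k9 : E ≤ U := fun e he => hc e (h2 e he) fun w hw => by
    have := h2 _ (mul_mem (k8 hw) he)
    rw [← mul_inv_eq_one, mul_inv_rev, inv_eq_of_mul_eq_one_left (h2 e he),
      inv_eq_of_mul_eq_one_left (sq w hw), this]
  have := card_le_of_le k9
  omega

theorem le_of_radical {S Q X : Subgroup G} (hr : Radical 2 Q) (hQ : Q ≤ S)
    (hc : S ⊓ centralizer (Q : Set G) ≤ Q) (h1 : X ≤ normalizer (Q : Set G))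
    (h2 : normalizer (Q : Set G) ≤ normalizer (X : Set G)) (h3 : Q ≤ X)
    (h4 : centralizer (Q : Set G) ≤ X) (h5 : PQuot 2 (centralizer (Q : Set G)) X) :
    S ⊓ X ≤ Q := by
  rintro g ⟨hg, hX⟩
  rw [hr X h1 h2 (sup_le h3 h4) fun x hx => (h5 x hx).imp fun _ h => mem_sup_right h] at hX
  obtain ⟨q, hq, c, hc', rfl⟩ := (mem_sup_of_le_normalizer' (le_normalizer.trans
    (normalizer_le_normalizer_centralizer Q))).1 hX
  exact mul_mem hq (hc ⟨(mul_mem_cancel_left (hQ hq)).1 hg, hc'⟩)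

theorem pquot_omega {Q : Subgroup G} (hQ : IsPGroup 2 Q) (ha : IsMulCommutative Q) :
    PQuot 2 (centralizer (Q : Set G))
      (normalizer (Q : Set G) ⊓ centralizer (omegaOne 2 Q : Set G)) := by
  rintro g ⟨hg, hc⟩
  have cm : ∀ a ∈ Q, ∀ b ∈ Q, a * b = b * a := fun a h1 b h2 =>
    congrArg Subtype.val (ha.is_comm.comm (⟨a, h1⟩ : Q) ⟨b, h2⟩)
  have key : ∀ k : ℕ, ∀ q ∈ Q, q ^ 2 ^ (k + 1) = 1 → q * g ^ 2 ^ k = g ^ 2 ^ k * q := by
    intro k
    induction k with
    | zero => exact fun q hq h => by simpa using hc q (H71.mem_om1 hq (by simpa using h))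
    | succ k ih =>
      intro q hq h
      set t := g ^ 2 ^ k with ht
      have h1 := ih (q ^ 2) (pow_mem hq 2) (by rw [← pow_mul, ← pow_succ', h])
      have h2 : t * q * t⁻¹ ∈ Q := (mem_normalizer_iff.1 (pow_mem hg _) q).1 hq
      have h3 : (t * q * t⁻¹ * q⁻¹) ^ 2 = 1 := by
        rw [Commute.mul_pow (cm _ h2 _ (inv_mem hq)), conj_pow, ← h1]; group
      have h4 := (pow_mem hc (2 ^ k)) _ (H71.mem_om1 (mul_mem h2 (inv_mem hq)) h3)
      rw [← ht] at h4
      rw [pow_succ, pow_mul, ← ht]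
      set v := t * q * t⁻¹ * q⁻¹ with hv
      have e : t * q = v * q * t := by rw [hv]; group
      calc q * t ^ 2 = v ^ 2 * q * t * t := by rw [h3, sq]; group
        _ = v * (t * q) * t := by rw [e, sq]; group
        _ = t * (v * q * t) := by rw [← mul_assoc v, h4]; group
        _ = t ^ 2 * q := by rw [← e, sq]; group
  obtain ⟨n, hn⟩ := hQ.exists_card_eq
  refine ⟨n, fun q hq => key n q hq ?_⟩
  rw [pow_succ, pow_mul, ← hn, show q ^ Nat.card Q = 1 from
    congrArg Subtype.val (pow_card_eq_one' (x := (⟨q, hq⟩ : Q))), one_pow]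

theorem q8_inner {Q : Subgroup G} (e : Q ≃* QuaternionGroup 2) {u : G}
    (hu : u ∈ normalizer (Q : Set G)) (h : ∀ q ∈ Q, ⁅u, q⁆ * ⁅u, q⁆ = 1) :
    ∃ r ∈ Q, r⁻¹ * u ∈ centralizer (Q : Set G) := by
  let α : Q ≃* Q := Q.normalizerMonoidHom ⟨u, hu⟩
  have hα : ∀ q : Q, (α q : G) = u * q * u⁻¹ := fun q => rfl
  let φ : QuaternionGroup 2 ≃* QuaternionGroup 2 := (e.symm.trans α).trans e
  have h1 : ∀ a, φ a * a⁻¹ * (φ a * a⁻¹) = 1 := fun a => by
    obtain ⟨q, rfl⟩ := e.surjective a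
    simp only [φ, MulEquiv.trans_apply, MulEquiv.symm_apply_apply, ← map_inv, ← map_mul]
    rw [← map_one e]
    exact congrArg e (Subtype.ext (h q q.2))
  have d1 : ∀ A B : QuaternionGroup 2,
      A * (QuaternionGroup.a 1)⁻¹ * (A * (QuaternionGroup.a 1)⁻¹) = 1 →
      B * (QuaternionGroup.xa 0)⁻¹ * (B * (QuaternionGroup.xa 0)⁻¹) = 1 →
      ∃ r, r * QuaternionGroup.a 1 * r⁻¹ = A ∧ r * QuaternionGroup.xa 0 * r⁻¹ = B := by decide
  have d2 : ∀ q : QuaternionGroup 2, ∃ (i : Fin 4) (j : Fin 2),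
      q = QuaternionGroup.a 1 ^ (i : ℕ) * QuaternionGroup.xa 0 ^ (j : ℕ) := by decide
  obtain ⟨r, r1, r2⟩ := d1 _ _ (h1 _) (h1 _)
  have h2 : ∀ a, r * a * r⁻¹ = φ a := fun a => by
    obtain ⟨i, j, rfl⟩ := d2 a
    rw [map_mul, map_pow, map_pow, ← r1, ← r2, conj_pow, conj_pow, conj_mul]
  obtain ⟨r, rfl⟩ := e.surjective r
  refine ⟨r, r.2, fun q hq => ?_⟩
  have h3 := h2 (e ⟨q, hq⟩)
  simp only [φ, MulEquiv.trans_apply, MulEquiv.symm_apply_apply, ← map_inv, ← map_mul] at h3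
  have h4 : (r : G) * q * (r : G)⁻¹ = u * q * u⁻¹ := congrArg Subtype.val (e.injective h3)
  calc q * ((r : G)⁻¹ * u) = (r : G)⁻¹ * (r * q * (r : G)⁻¹) * u := by group
    _ = _ := by rw [h4]; group

theorem zmod_half {n : ℕ} (hn : 2 ≤ n) {a : ZMod (2 ^ n)} (h : a + a = 0) : ∃ b, a = b + b := by
  obtain ⟨n, rfl⟩ := Nat.exists_eq_add_of_le' hn
  obtain ⟨a, rfl⟩ := ZMod.natCast_zmod_surjective a
  rw [← Nat.cast_add, ZMod.natCast_eq_zero_iff, ← two_mul, pow_succ', mul_dvd_mul_iff_left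
    two_ne_zero] at h
  obtain ⟨b, rfl⟩ := (dvd_pow_self 2 (Nat.succ_ne_zero n)).trans h
  exact ⟨b, by push_cast; ring⟩

/-- Proper centric radical subgroups of a Sylow 2-subgroup of rank at least three are not
metacyclic. -/
theorem not_meta_of_radical (S : Sylow 2 G) {E : Subgroup G} (hES : E ≤ S) (hE : 4 < Nat.card E)
    (h2 : ∀ e ∈ E, e * e = 1) {Q : Subgroup G} (hQ : Q < S)
    (hc : (S : Subgroup G) ⊓ centralizer (Q : Set G) ≤ Q) (hr : Radical 2 Q) :
    ¬ IsMetacyclic Q := fun hm => by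
  have hQ2 : IsPGroup 2 Q := S.2.to_le hQ.le
  have cE : 4 < Nat.card (E.subgroupOf S) := by
    rwa [Nat.card_congr (subgroupOfEquivOfLe hES).toEquiv]
  have sE : ∀ e ∈ E.subgroupOf S, e * e = 1 := fun e he => Subtype.ext (h2 e he)
  have hA : ¬ IsPGroup 2 (MulAut Q) := fun hA => (lt_inf_normalizer_of_lt S.2 hQ).not_ge
    (le_of_radical hr hQ.le hc le_rfl le_normalizer le_normalizer (centralizer_le_normalizer _)
      fun g hg => by
        obtain ⟨k, hk⟩ := hA (Q.normalizerMonoidHom ⟨g, hg⟩)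
        rw [← map_pow, ← MonoidHom.mem_ker, normalizerMonoidHom_ker] at hk
        exact ⟨k, hk⟩)
  obtain ⟨U, c4, u2, uw, g, g2, gc, gU⟩ := exists_four S.2 cE sE
  have w1 : ∀ u ∈ U, ∀ q ∈ Q, ⁅(u : G), q⁆ ∈ Q ∧ ⁅(u : G), q⁆ ∈ centralizer (Q : Set G) ∧
      ⁅(u : G), q⁆ * ⁅(u : G), q⁆ = 1 := fun u hu q hq => by
    obtain ⟨k1, k2⟩ := uw u hu ⟨q, hQ.le hq⟩
    have k3 : ⁅(u : G), q⁆ ∈ centralizer (Q : Set G) := fun r hr =>
      congrArg Subtype.val (mem_center_iff.1 k1 ⟨r, hQ.le hr⟩)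
    exact ⟨hc ⟨(⁅u, ⟨q, hQ.le hq⟩⁆ : (S : Subgroup G)).2, k3⟩, k3, congrArg Subtype.val k2⟩
  have w2 : ∀ u ∈ U, (u : G) ∈ normalizer (Q : Set G) := fun u hu =>
    mem_normalizer_fintype fun q hq => by
      simpa [commutatorElement_def] using mul_mem (w1 u hu q hq).1 hq
  rcases H97.metacyclic_two_odd_aut hQ2 hm hA with ⟨⟨e⟩⟩ | ⟨n, ⟨e⟩⟩
  · have w3 : ∀ u ∈ U, (u : G) ∈ Q := fun u hu => by
      obtain ⟨r, hr, h3⟩ := q8_inner e (w2 u hu) fun q hq => (w1 u hu q hq).2.2
      exact (mul_mem_cancel_left (inv_mem hr)).1 (hc (mem_inf.2 ⟨mul_mem (inv_mem (hQ.le hr)) u.2, h3⟩))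
    have d : ∀ a b c : QuaternionGroup 2, a * a = 1 → b * b = 1 → c * c = 1 →
      a = b ∨ a = c ∨ b = c := by decide
    haveI := Fintype.ofFinite U
    obtain ⟨a, b, c, hab, hac, hbc⟩ := (Fintype.two_lt_card_iff (α := U)).1 (by
      rw [← Nat.card_eq_fintype_card]; omega)
    have k : ∀ a : U, e ⟨a, w3 a a.2⟩ * e ⟨a, w3 a a.2⟩ = 1 := fun a => by
      rw [← map_mul, ← map_one e]
      exact congrArg e (Subtype.ext (by simpa using congrArg Subtype.val (u2 a a.2)))
    have k' : ∀ a b : U, e ⟨a, w3 a a.2⟩ = e ⟨b, w3 b b.2⟩ → a = b := fun a b h =>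
      Subtype.ext (Subtype.ext (by simpa using congrArg Subtype.val (e.injective h)))
    rcases d _ _ _ (k a) (k b) (k c) with h | h | h
    exacts [hab (k' _ _ h), hac (k' _ _ h), hbc (k' _ _ h)]
  have ha : IsMulCommutative Q := ⟨⟨fun a b => e.injective (by rw [map_mul, map_mul, mul_comm])⟩⟩
  have hQc : Q ≤ centralizer (Q : Set G) := le_centralizer Q
  by_cases hn : 2 ≤ n
  · have v1 := le_of_radical hr hQ.le hc inf_le_left (le_normalizer_inf le_normalizer
      ((H71.normalizer_le_normalizer_om1 Q).trans (normalizer_le_normalizer_centralizer _)))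
      (le_inf le_normalizer (hQc.trans (centralizer_le (H71.om1_le 2 Q))))
      (le_inf (centralizer_le_normalizer _) (centralizer_le (H71.om1_le 2 Q))) (pquot_omega hQ2 ha)
    have v2 : (S : Subgroup G) ⊓ centralizer (omegaOne 2 Q : Set G) ≤ Q := by
      have v3 : Q ≤ (S : Subgroup G) ⊓ centralizer (omegaOne 2 Q : Set G) :=
        le_inf hQ.le (hQc.trans (centralizer_le (H71.om1_le 2 Q)))
      by_contra k
      exact (lt_inf_normalizer_of_lt S.2.to_inf_left (lt_of_le_of_ne v3 fun e => k e.ge)).not_ge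
        fun x hx => v1 ⟨hx.1.1, hx.2, hx.1.2⟩
    have v3 : U.map (S : Subgroup G).subtype ≤ omegaOne 2 Q := by
      rintro _ ⟨u, hu, rfl⟩
      refine H71.mem_om1 (v2 ⟨u.2, fun v hv => ?_⟩) (by
        rw [sq]; exact congrArg Subtype.val (u2 u hu))
      have hvQ := H71.om1_le 2 Q hv
      have h3 : e ⟨v, hvQ⟩ * e ⟨v, hvQ⟩ = 1 := by
        rw [← map_mul, ← map_one e]
        exact congrArg e (Subtype.ext (by simpa [sq] using H71.om1_pow_of_comm ha hv))
      obtain ⟨b1, e1⟩ := zmod_half hn (congrArg (fun x => (Multiplicative.toAdd x).1) h3)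
      obtain ⟨b2, e2⟩ := zmod_half hn (congrArg (fun x => (Multiplicative.toAdd x).2) h3)
      obtain ⟨q, hq⟩ := e.surjective (Multiplicative.ofAdd (b1, b2))
      have h4 : v = q * q := congrArg Subtype.val (e.injective (show e ⟨v, hvQ⟩ = e (q * q) by
        rw [map_mul, hq]; exact Multiplicative.toAdd.injective (Prod.ext e1 e2)))
      obtain ⟨-, k2, k3⟩ := w1 u hu q q.2
      show v * u = u * v
      set w := ⁅(u : G), (q : G)⁆ with hw
      have e3 : (u : G) * q = w * q * u := by rw [hw, commutatorElement_def]; group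
      calc v * u = w * w * q * q * u := by rw [k3, h4]; group
        _ = w * (w * q) * q * u := by group
        _ = w * (q * w) * q * u := by rw [k2 q q.2]
        _ = w * q * (w * q * u) := by group
        _ = u * v := by rw [← e3, ← mul_assoc, ← e3, h4, mul_assoc]
    have v4 : U.map (S : Subgroup G).subtype = omegaOne 2 Q := eq_of_le_of_card_ge v3 (by
      rw [card_map_of_injective (subtype_injective _), c4]
      by_contra k
      exact not_meta (not_le.1 k) (fun v hv => by simpa [sq] using H71.om1_pow_of_comm ha hv)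
        (H71.isMetacyclic_of_le hm (H71.om1_le 2 Q)))
    have v5 : (g : G) ∈ omegaOne 2 Q := H71.mem_om1 (v2 ⟨g.2, v4 ▸ by
      rintro _ ⟨u, hu, rfl⟩; exact congrArg Subtype.val (gc u hu)⟩) (by
        rw [sq]; exact congrArg Subtype.val g2)
    obtain ⟨u, hu, h3⟩ := v4 ▸ v5
    exact gU (Subtype.ext h3 ▸ hu)
  have cQ : Nat.card Q = 2 ^ n * 2 ^ n := by
    rw [Nat.card_congr e.toEquiv]; simp
  obtain rfl | rfl : n = 0 ∨ n = 1 := by omega
  · rw [show Q = ⊥ from card_eq_one.1 cQ] at hc hQ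
    exact hQ.not_ge fun s hs => hc ⟨hs, fun x hx => by rw [mem_bot.1 hx, mul_one, one_mul]⟩
  obtain ⟨m, hm'⟩ := S.2.exists_card_eq
  have m3 : 3 ≤ m := by
    by_contra k
    have := card_le_of_le hES
    have : 2 ^ m ≤ 2 ^ 2 := Nat.pow_le_pow_right two_pos (by omega)
    omega
  obtain ⟨m, rfl⟩ := Nat.exists_eq_add_of_le' (show 2 ≤ m by omega)
  obtain ⟨a, b, h⟩ := exists_MC_of_maxClass (by omega) hm' (S0112.result _ hm' (Q.subgroupOf S)
    (by rw [Nat.card_congr (subgroupOfEquivOfLe hQ.le).toEquiv, cQ]; rfl) (le_antisymm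
      (fun x hx => hc ⟨x.2, fun q hq => congrArg Subtype.val (hx ⟨q, hQ.le hq⟩ hq)⟩)
      fun x hx q hq => Subtype.ext (hQc hx q hq)))
  exact (h.card_le_four le_top sE).not_gt cE

theorem rank_le (hG : _root_.commutator G = ⊤) (S : Sylow 2 G) {x y : (S : Subgroup G)}
    (h : Bi x y) : PRankLE 2 2 G := by
  intro A _ hA
  by_contra hc
  obtain ⟨c, hcA⟩ := (isSyl_top S).exists_cj_le (Q := A)
    (fun a => ⟨1, Subtype.ext (by simpa using hA a a.2)⟩) le_top
  set E := cj c A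
  have hES : E ≤ S := hcA.2
  have hE : 4 < Nat.card E := by
    rw [card_map_of_injective (MulAut.conj c).injective]; omega
  have h2 : ∀ e ∈ E, e * e = 1 := by
    rintro _ ⟨a, ha, rfl⟩
    rw [← map_mul, ← sq, hA a ha, map_one]
  obtain ⟨M, m1, m2, m3⟩ := h.exists_max S.2 (E := E.subgroupOf S)
    (by rwa [Nat.card_congr (subgroupOfEquivOfLe hES).toEquiv]) fun e he => Subtype.ext (h2 e he)
  set K := M.map (S : Subgroup G).subtype
  have good : IsGood fun (A : Subgroup G) (y : G) => ∀ a ∈ A, a * (y * a * y⁻¹)⁻¹ ∈ K :=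
    ⟨fun T U g h1 h3 a ha => h3 a (h1 ha), fun T g h h1 h3 a ha => by
      have := mul_mem (h1 a ha) (h3 (g * a * g⁻¹) ⟨a, ha, rfl⟩)
      convert this using 1; group, fun T g h1 => by
      rintro _ ⟨a, ha, rfl⟩
      have := inv_mem (h1 a ha)
      convert this using 1
      simp [mul_assoc]⟩
  have key := good.alperin_radical (fun A c hc a ha => by
    rw [← hc a ha]; simpa using one_mem K) (isSyl_top S) fun Q hQ _ hc hr y hy a ha => by
      have hy' : y * a * y⁻¹ ∈ Q := (mem_normalizer_iff.1 hy a).1 ha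
      rcases hQ.lt_or_eq with hQ' | rfl
      · have h3 := (m3 (Q.subgroupOf S) fun e => hQ'.not_ge (subgroupOf_eq_top.1 e)).resolve_right
          fun k => not_meta_of_radical S hES hE h2 hQ' hc hr
            (H71.isMetacyclic_of_surjective k (subgroupOfEquivOfLe hQ).toMonoidHom
              (subgroupOfEquivOfLe hQ).surjective)
        have h4 : Q ≤ K := fun q hq => ⟨⟨q, hQ hq⟩, h3 hq, rfl⟩
        exact h4 (mul_mem ha (inv_mem hy'))
      · let α := (S : Subgroup G).normalizerMonoidHom ⟨y, hy⟩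
        have h3 : M.comap α.toMonoidHom ≤ M := (m3 _ fun e => by
          have := M.index_comap_of_surjective (f := α.toMonoidHom) α.surjective
          rw [e, index_top, m1] at this; omega).resolve_right fun k => m2
            (H71.isMetacyclic_of_surjective k (α.toMonoidHom.subgroupComap M)
              (α.toMonoidHom.subgroupComap_surjective_of_surjective M α.surjective))
        have h4 : M.comap α.toMonoidHom = M := eq_of_le_of_card_ge h3 (by
          have := M.index_comap_of_surjective (f := α.toMonoidHom) α.surjective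
          have k1 := M.card_mul_index
          have k2 := (M.comap α.toMonoidHom).card_mul_index
          rw [this, m1] at k2
          rw [m1] at k1
          omega)
        refine ⟨⟨a, ha⟩ * (α ⟨a, ha⟩)⁻¹, (mul_mem_iff_of_index_two m1).2 ?_, rfl⟩
        rw [inv_mem_iff]
        exact (SetLike.ext_iff.1 h4 ⟨a, ha⟩).symm
  have h5 := H8.commutator_inf_le_of_fusion S (K := K) fun a ha g hg =>
    key (zpowers a) (zpowers_le.2 ha) g trivial (by
      rw [cj, MonoidHom.map_zpowers]; exact zpowers_le.2 hg) a (mem_zpowers a)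
  rw [hG, top_inf_eq] at h5
  have h6 : M = ⊤ := eq_top_iff.2 fun s _ => by
    obtain ⟨t, ht, e⟩ := h5 s.2
    exact Subtype.ext e ▸ ht
  rw [h6, index_top] at m1
  omega

end Cfsg.Agent.H9.Bic
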