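import Cfsg.Agent.H42.HtDefs
import Cfsg.Agent.H80.SchurHopf
import Cfsg.Agent.S2086
import Cfsg.Agent.S2046

/-!
# Project HT: the centre of the normal closure
-/

set_option autoImplicit false

namespace Cfsg.Agent.H9.HtJM

open Cfsg Cfsg.Agent.H42.HT Subgroup

universe u

theorem center_dvd {L : Type u} [Group L] [Finite L] [Group.IsPerfect L] {S : Type} [Group S]
    {n : ℕ} (hM : HasCyclicSchurMultiplier S n) (e : (L ⧸ center L) ≃* S) :
    Nat.card (center L) ∣ n := by
  let σ : L →* S := e.toMonoidHom.comp (QuotientGroup.mk' _)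
  have hk : σ.ker = center L := by
    ext x
    rw [MonoidHom.mem_ker]
    change e _ = 1 ↔ _
    rw [map_eq_one_iff e e.injective]
    exact QuotientGroup.eq_one_iff _
  obtain ⟨f, hf⟩ := H80.exists_surjective_ker_of_stem hM (ξ := σ)
    ⟨e.surjective.comp (QuotientGroup.mk'_surjective _), hk.le,
      fun _ _ => Group.IsPerfect.mem_commutator⟩
  rw [← hk]
  exact (card_dvd_of_surjective f hf).trans (dvd_of_eq (Nat.card_zmod n))

theorem jm : JmStmt.{u} := by
  intro _ G _ _ β τ w r h hn H _ f q Y L k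
  have := k.perf
  obtain ⟨e⟩ := k.quo
  have h1 : center L = ⊥ → w ∉ L := fun hc hw => by
    have : (⟨w, hw⟩ : L) ∈ center L := mem_center_iff.2 fun y => Subtype.ext (hn y).1
    rw [hc] at this
    exact h.w1 (congrArg Subtype.val (mem_bot.1 this))
  constructor
  · rintro ⟨F, _, _, hF, ⟨e'⟩⟩
    have := center_dvd (S2086.result hF 4 (by norm_num) (by norm_num) (by simp)) (e.trans e')
    exact h1 (card_eq_one.1 (Nat.dvd_one.1 this))
  · rintro ⟨e'⟩
    rcases (Nat.dvd_prime Nat.prime_two).1 (center_dvd S2046.result (e.trans e')) with h2 | h2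
    · have h3 := card_eq_one.1 h2
      exact .inl ⟨h1 h3, ⟨(QuotientGroup.quotientBot.symm.trans
        (QuotientGroup.quotientMulEquivOfEq h3.symm)).trans (e.trans e')⟩⟩
    · refine .inr ⟨?_, h2⟩
      obtain ⟨i, hi, hu⟩ := (Nat.card_eq_two_iff' (1 : center L)).1 h2
      have i1 : (i.1 : G) ≠ 1 := fun e1 => hi (Subtype.ext (Subtype.ext e1))
      have hc : ∀ x ∈ L, x * i.1 = i.1 * x := fun x hx =>
        congrArg Subtype.val (mem_center_iff.1 i.2 ⟨x, hx⟩)
      have i2 : (i.1 : G) ^ 2 = 1 := by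
        have := pow_card_eq_one' (x := i)
        rw [h2] at this
        exact congrArg (fun x : center L => (x.1 : G)) this
      have iτ : τ * i.1 * τ⁻¹ = i.1 := by
        have hm : (⟨τ * i.1 * τ⁻¹, k.nrm.conj_mem _ i.1.2 τ⟩ : L) ∈ center L :=
          mem_center_iff.2 fun y => Subtype.ext (by
            have := hc _ (k.nrm.conj_mem _ y.2 τ⁻¹)
            show y * (τ * i.1 * τ⁻¹) = τ * i.1 * τ⁻¹ * y
            calc y * (τ * i.1 * τ⁻¹) = τ * (τ⁻¹ * y * τ⁻¹⁻¹ * i.1) * τ⁻¹ := by group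
              _ = _ := by rw [this]; group)
        have := hu ⟨_, hm⟩ fun e1 => i1 (by
          have : τ * i.1 * τ⁻¹ = 1 := congrArg (fun x : center L => (x.1 : G)) e1
          simpa using this)
        exact congrArg (fun x : center L => (x.1 : G)) this
      rcases q.two _ ((k.cen _).1 hc) ⟨1, i2⟩ with e1 | e1 | e1 | e1
      · exact absurd e1 i1
      · exact e1 ▸ i.1.2
      · rw [e1, h.τr] at iτ
        exact absurd (mul_eq_left.1 iτ) h.w1
      · rw [e1, show τ * (r * w) * τ⁻¹ = τ * r * τ⁻¹ * (τ * w * τ⁻¹) by group, h.τr, h.τw.eq,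
          mul_inv_cancel_right] at iτ
        exact absurd (mul_eq_left.1 iτ) h.w1

end Cfsg.Agent.H9.HtJM
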