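import Cfsg.Agent.H76.K4Defs

/-! An arithmetic lemma on sums of four squares. -/

set_option autoImplicit false

namespace Cfsg.Agent.H9.K4Ar

def Hm (x y z : ℤ) : Prop := ∀ m n k : ℤ, (m * x + n * y + k * z) ^ 2 + (m * x + n * y + k * z) ≤
  (1 + x ^ 2 + y ^ 2 + z ^ 2) * (m ^ 2 + n ^ 2 + k ^ 2)

theorem key {x y z : ℤ} (H : Hm x y z) (N j m n k a b c : ℤ) (h1 : N * m = j * x + a)
    (h2 : N * n = j * y + b) (h3 : N * k = j * z + c) :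
    (x ^ 2 + y ^ 2 + z ^ 2) * (j * (N - j) - (a ^ 2 + b ^ 2 + c ^ 2)) + (a * x + b * y + c * z) ^ 2 +
      (N - 2 * j) * (a * x + b * y + c * z) ≤ a ^ 2 + b ^ 2 + c ^ 2 := by
  have h := mul_le_mul_of_nonneg_left (H m n k) (sq_nonneg N)
  have e1 : N ^ 2 * ((m * x + n * y + k * z) ^ 2 + (m * x + n * y + k * z)) =
      ((N * m) * x + (N * n) * y + (N * k) * z) ^ 2 + N * ((N * m) * x + (N * n) * y + (N * k) * z) := by
    ring
  have e2 : N ^ 2 * ((1 + x ^ 2 + y ^ 2 + z ^ 2) * (m ^ 2 + n ^ 2 + k ^ 2)) =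
      (1 + x ^ 2 + y ^ 2 + z ^ 2) * ((N * m) ^ 2 + (N * n) ^ 2 + (N * k) ^ 2) := by ring
  rw [e1, e2, h1, h2, h3] at h
  nlinarith [h]

theorem r4 {v : ℤ} (h : v % 2 = 1) : ∃ m a : ℤ, 4 * m = 1 * v + a ∧ a ^ 2 = 1 := by
  rcases (by omega : v % 4 = 1 ∨ v % 4 = 3) with e | e
  · exact ⟨v / 4, -1, by omega, by norm_num⟩
  · exact ⟨v / 4 + 1, 1, by omega, by norm_num⟩

theorem r81 {v : ℤ} (h : v % 8 = 1 ∨ v % 8 = 7) : ∃ m a : ℤ, 8 * m = 1 * v + a ∧ a ^ 2 = 1 := by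
  rcases h with e | e
  · exact ⟨v / 8, -1, by omega, by norm_num⟩
  · exact ⟨v / 8 + 1, 1, by omega, by norm_num⟩

theorem r82 {v : ℤ} (j : ℤ) (hj : j = 1 ∨ j = 3) (h : v % 4 = 2) :
    ∃ m a : ℤ, 8 * m = j * v + a ∧ a ^ 2 = 4 := by
  rcases (by rcases hj with rfl | rfl <;> omega : (j * v) % 8 = 2 ∨ (j * v) % 8 = 6) with e | e
  · exact ⟨j * v / 8, -2, by omega, by norm_num⟩
  · exact ⟨j * v / 8 + 1, 2, by omega, by norm_num⟩

theorem r83 {v : ℤ} (h : v % 8 = 3 ∨ v % 8 = 5) : ∃ m a : ℤ, 8 * m = 3 * v + a ∧ a ^ 2 = 1 := by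
  rcases h with e | e
  · exact ⟨3 * v / 8, -1, by omega, by norm_num⟩
  · exact ⟨3 * v / 8 + 1, 1, by omega, by norm_num⟩

theorem r84 {v : ℤ} (h : v % 2 = 1) : ∃ m a : ℤ, 8 * m = 3 * v + a ∧ a ^ 2 ≤ 9 := by
  rcases (by omega : v % 8 = 1 ∨ v % 8 = 7 ∨ (v % 8 = 3 ∨ v % 8 = 5)) with e | e | e
  · exact ⟨3 * v / 8, -3, by omega, by norm_num⟩
  · exact ⟨3 * v / 8 + 1, 3, by omega, by norm_num⟩
  · obtain ⟨m, a, h1, h2⟩ := r83 e
    exact ⟨m, a, h1, by omega⟩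

theorem core {x y z : ℤ} (H : Hm x y z) (hx : x % 2 = 1) (hy : y % 2 = 1) (hz : z % 2 = 0) :
    x ^ 2 + y ^ 2 + z ^ 2 ≤ 15 := by
  have D : 0 ≤ x ^ 2 + y ^ 2 + z ^ 2 := by positivity
  rcases (by omega : z % 4 = 0 ∨ z % 4 = 2) with e | e
  · obtain ⟨m, a, h1, a1⟩ := r4 hx
    obtain ⟨n, b, h2, b1⟩ := r4 hy
    have := key H 4 1 m n (z / 4) a b 0 h1 h2 (by omega)
    rw [a1, b1] at this
    nlinarith [sq_nonneg (a * x + b * y + 0 * z + 1)]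
  by_cases c1 : x % 8 = 3 ∨ x % 8 = 5
  · obtain ⟨m, a, h1, a1⟩ := r83 c1
    obtain ⟨n, b, h2, b1⟩ := r84 hy
    obtain ⟨k, c, h3, c1⟩ := r82 3 (.inr rfl) e
    have := key H 8 3 m n k a b c h1 h2 h3
    rw [a1, c1] at this
    nlinarith [sq_nonneg (a * x + b * y + c * z + 1), mul_nonneg D (sub_nonneg.2 b1)]
  by_cases c2 : y % 8 = 3 ∨ y % 8 = 5
  · obtain ⟨m, a, h1, a1⟩ := r84 hx
    obtain ⟨n, b, h2, b1⟩ := r83 c2
    obtain ⟨k, c, h3, c1⟩ := r82 3 (.inr rfl) e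
    have := key H 8 3 m n k a b c h1 h2 h3
    rw [b1, c1] at this
    nlinarith [sq_nonneg (a * x + b * y + c * z + 1), mul_nonneg D (sub_nonneg.2 a1)]
  obtain ⟨m, a, h1, a1⟩ := r81 (v := x) (by omega)
  obtain ⟨n, b, h2, b1⟩ := r81 (v := y) (by omega)
  obtain ⟨k, c, h3, c1⟩ := r82 1 (.inl rfl) e
  have := key H 8 1 m n k a b c h1 h2 h3
  rw [a1, b1, c1] at this
  nlinarith [sq_nonneg (a * x + b * y + c * z + 3)]

theorem sq2 (v : ℤ) : v ^ 2 % 2 = v % 2 := by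
  rcases Int.emod_two_eq_zero_or_one v with h | h <;> simp [pow_two, Int.mul_emod, h]

theorem bound {x y z : ℤ} (H : Hm x y z) (ho : (1 + x ^ 2 + y ^ 2 + z ^ 2) % 2 = 1) :
    x ^ 2 + y ^ 2 + z ^ 2 ≤ 15 := by
  have h1 := sq2 x
  have h2 := sq2 y
  have h3 := sq2 z
  rcases (by omega : (x % 2 = 0 ∧ y % 2 = 0 ∧ z % 2 = 0) ∨ (x % 2 = 1 ∧ y % 2 = 1 ∧ z % 2 = 0) ∨
    (x % 2 = 1 ∧ z % 2 = 1 ∧ y % 2 = 0) ∨ (y % 2 = 1 ∧ z % 2 = 1 ∧ x % 2 = 0)) with h | h | h | h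
  · have := key H 2 1 (x / 2) (y / 2) (z / 2) 0 0 0 (by omega) (by omega) (by omega)
    nlinarith
  · exact core H h.1 h.2.1 h.2.2
  · have := core (x := x) (y := z) (z := y) (fun m n k => by have := H m k n; linarith) h.1 h.2.1 h.2.2
    linarith
  · have := core (x := y) (y := z) (z := x) (fun m n k => by have := H k m n; linarith) h.1 h.2.1 h.2.2
    linarith

theorem hm_of (q x y z : ℤ) (hq : q = 1 + x ^ 2 + y ^ 2 + z ^ 2)
    (H : ∀ a b c d : ℤ, q ∣ b - a * x → q ∣ c - a * y → q ∣ d - a * z →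
      q * a ≤ a ^ 2 + b ^ 2 + c ^ 2 + d ^ 2) : Hm x y z := by
  intro m n k
  have q0 : 0 < q := by rw [hq]; positivity
  have := H (m * x + n * y + k * z) ((m * x + n * y + k * z) * x - q * m)
    ((m * x + n * y + k * z) * y - q * n) ((m * x + n * y + k * z) * z - q * k)
    ⟨-m, by ring⟩ ⟨-n, by ring⟩ ⟨-k, by ring⟩
  rw [← hq]
  refine le_of_mul_le_mul_left ?_ q0
  have e : (m * x + n * y + k * z) ^ 2 + ((m * x + n * y + k * z) * x - q * m) ^ 2 +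
      ((m * x + n * y + k * z) * y - q * n) ^ 2 + ((m * x + n * y + k * z) * z - q * k) ^ 2 =
      q * (q * (m ^ 2 + n ^ 2 + k ^ 2)) - q * (m * x + n * y + k * z) ^ 2 := by
    rw [hq]; ring
  rw [e] at this
  linarith

/-- odd `q`: at most `15`. -/
theorem ar (q x y z : ℤ) (hq : q = 1 + x ^ 2 + y ^ 2 + z ^ 2) (ho : q % 2 = 1)
    (H : ∀ a b c d : ℤ, q ∣ b - a * x → q ∣ c - a * y → q ∣ d - a * z →
      q * a ≤ a ^ 2 + b ^ 2 + c ^ 2 + d ^ 2) : q ≤ 15 := by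
  have := bound (hm_of q x y z hq H) (hq ▸ ho)
  omega

theorem sq8 (v : ℤ) : v ^ 2 % 8 = 0 ∨ v ^ 2 % 8 = 1 ∨ v ^ 2 % 8 = 4 := by
  have : v % 8 = 0 ∨ v % 8 = 1 ∨ v % 8 = 2 ∨ v % 8 = 3 ∨ v % 8 = 4 ∨ v % 8 = 5 ∨ v % 8 = 6 ∨
    v % 8 = 7 := by omega
  rcases this with h | h | h | h | h | h | h | h <;> simp [pow_two, Int.mul_emod, h]

theorem fin (q x y z mx my mz e1 e2 e3 : ℤ) (hq : q = 1 + x ^ 2 + y ^ 2 + z ^ 2) (ho : q % 2 = 1)
    (hb : x ^ 2 + y ^ 2 + z ^ 2 ≤ 15) (hm : x * mx + y * my + z * mz = -1) (h1 : e1 = 1 ∨ e1 = -1)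
    (h2 : e2 = 1 ∨ e2 = -1) (h3 : e3 = 1 ∨ e3 = -1) (he : e1 * x + e2 * y + e3 * z = 0) :
    q = 3 ∨ q = 7 ∨ q = 15 := by
  have b : ∀ u v w : ℤ, u ^ 2 + v ^ 2 + w ^ 2 ≤ 15 → -3 ≤ u ∧ u ≤ 3 := fun u v w h => by
    constructor <;> nlinarith [sq_nonneg v, sq_nonneg w]
  obtain ⟨x1, x2⟩ := b x y z hb
  obtain ⟨y1, y2⟩ := b y x z (by linarith)
  obtain ⟨z1, z2⟩ := b z x y (by linarith)
  interval_cases x <;> interval_cases y <;> interval_cases z <;> omega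

theorem ar4 : Cfsg.Agent.H76.K4.Ar4Stmt := by
  rintro p n hp ⟨x, y, z, mx, my, mz, hq, hm, H, he⟩
  by_cases h2 : p = 2
  · subst h2
    have s1 := sq8 x
    have s2 := sq8 y
    have s3 := sq8 z
    rcases n with _ | _ | _ | n
    · exfalso
      have hx : x = 0 := by norm_num at hq; nlinarith [sq_nonneg x, sq_nonneg y, sq_nonneg z]
      have hy : y = 0 := by norm_num at hq; nlinarith [sq_nonneg x, sq_nonneg y, sq_nonneg z]
      have hz : z = 0 := by norm_num at hq; nlinarith [sq_nonneg x, sq_nonneg y, sq_nonneg z]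
      simp [hx, hy, hz] at hm
    · simp
    · simp
    · exfalso
      have : 2 ^ (n + 1 + 1 + 1) = 8 * 2 ^ n := by ring
      omega
  have ho : p ^ n % 2 = 1 := Nat.odd_iff.1 (hp.odd_of_ne_two h2).pow
  have hb := bound (x := x) (y := y) (z := z) (fun m n k => by
    have := H m n k
    rw [hq] at this
    linarith) (by omega)
  rcases he h2 with ⟨e1, e2, e3, a1, a2, a3, a4⟩ | h
  · have := fin _ x y z mx my mz e1 e2 e3 hq (by omega) hb hm (sq_eq_one_iff.1 a1)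
      (sq_eq_one_iff.1 a2) (sq_eq_one_iff.1 a3) a4
    have h15 : p ^ n ≠ 15 := fun e => by
      have d3 := (Nat.prime_dvd_prime_iff_eq Nat.prime_three hp).1
        (Nat.prime_three.dvd_of_dvd_pow (e ▸ by norm_num : 3 ∣ p ^ n))
      have d5 := (Nat.prime_dvd_prime_iff_eq Nat.prime_five hp).1
        (Nat.prime_five.dvd_of_dvd_pow (e ▸ by norm_num : 5 ∣ p ^ n))
      omega
    omega
  · exact .inr (.inl h)

end Cfsg.Agent.H9.K4Ar
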