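import Cfsg.Agent.H9.KCRec
import Cfsg.Agent.H43.KCLeaf
import Cfsg.Agent.H61.KcDfs
import Cfsg.Agent.H9.KCP0
import Cfsg.Agent.H9.KCP1
import Cfsg.Agent.H9.KCP2
import Cfsg.Agent.H9.KCP3
import Cfsg.Agent.H9.KCP4
import Cfsg.Agent.H9.KCP5
import Cfsg.Agent.H9.KCP6
import Cfsg.Agent.H9.KCP7
import Cfsg.Agent.H9.KCP8
import Cfsg.Agent.H9.KCP9
import Cfsg.Agent.H9.KCP10
import Cfsg.Agent.H9.KCP11
import Cfsg.Agent.H9.KCP12
import Cfsg.Agent.H9.KCP13
import Cfsg.Agent.H9.KCP14
import Cfsg.Agent.H9.KCP15
import Cfsg.Agent.H9.KCP16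
import Cfsg.Agent.H9.KCP17
import Cfsg.Agent.H9.KCP18
import Cfsg.Agent.H9.KCP19
import Cfsg.Agent.H9.KCP20
import Cfsg.Agent.H9.KCP21
import Cfsg.Agent.H9.KCP22
import Cfsg.Agent.H9.KCP23
import Cfsg.Agent.H9.KCP24
import Cfsg.Agent.H9.KCP25
import Cfsg.Agent.H9.KCP26
import Cfsg.Agent.H9.KCP27
import Cfsg.Agent.H9.KCP28
import Cfsg.Agent.H9.KCP29
import Cfsg.Agent.H9.KCP30
import Cfsg.Agent.H9.KCP31
import Cfsg.Agent.H9.KCP32
import Cfsg.Agent.H9.KCP33
import Cfsg.Agent.H9.KCP34
import Cfsg.Agent.H9.KCP35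
import Cfsg.Agent.H9.KCP36
import Cfsg.Agent.H9.KCP37
import Cfsg.Agent.H9.KCP38
import Cfsg.Agent.H9.KCP39
import Cfsg.Agent.H9.KCP40

/-! The arithmetic search. -/

set_option autoImplicit false

namespace Cfsg.Agent.H9.KC

universe u

theorem nil_all {p : List ℕ → Prop} : ∀ g ∈ ([] : List (List ℕ)), p g := fun _ h => nomatch h

theorem cov (S : List (Bool × List ℕ) → Prop)
    (h0 : S [(true, [310]), (true, [522]), (true, [710]), (true, [1310, 1122, 1710, 1120, 1911])])
    (h1 : S [(true, [310]), (true, [522]), (true, [710]), (true, [1311, 1322, 1910])])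
    (h2 : S [(true, [310]), (true, [522]), (true, [710]), (false, [1310, 1122, 1710, 1120, 1911, 1311, 1322, 1910])])
    (h3 : S [(true, [310]), (true, [522]), (true, [722]), (true, [1310, 1120])])
    (h4 : S [(true, [310]), (true, [522]), (true, [722]), (false, [1310, 1120])])
    (h5 : S [(true, [310]), (true, [522]), (true, [711]), (true, [1310, 1710])])
    (h6 : S [(true, [310]), (true, [522]), (true, [711]), (false, [1310, 1710])])
    (h7 : S [(true, [310]), (true, [522]), (true, [733, 1920, 1322])])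
    (h8 : S [(true, [310]), (true, [522]), (true, [1310, 1120, 1124])])
    (h9 : S [(true, [310]), (true, [522]), (true, [1910, 1710, 720])])
    (h10 : S [(true, [310]), (true, [522]), (true, [1122, 712])])
    (h11 : S [(true, [310]), (true, [522]), (false, [710, 722, 711, 733, 1920, 1322, 1310, 1120, 1124, 1910, 1710, 720, 1122, 712])])
    (h12 : S [(true, [310]), (true, [511]), (true, [722, 1311, 1312])])
    (h13 : S [(true, [310]), (true, [511]), (true, [710, 733, 1310])])
    (h14 : S [(true, [310]), (true, [511]), (true, [711, 1122, 712, 720])])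
    (h15 : S [(true, [310]), (true, [511]), (false, [722, 1311, 1312, 710, 733, 1310, 711, 1122, 712, 720])])
    (h16 : S [(true, [310]), (true, [510]), (true, [722, 711, 710, 1111, 720])])
    (h17 : S [(true, [310]), (true, [510]), (false, [722, 711, 710, 1111, 720])])
    (h18 : S [(true, [310]), (true, [512, 513, 1930])])
    (h19 : S [(true, [310]), (true, [520, 711, 720, 713, 3722])])
    (h20 : S [(true, [310]), (true, [722, 710, 733, 1322, 525, 1330])])
    (h21 : S [(true, [310]), (false, [522, 511, 510, 512, 513, 1930, 520, 711, 720, 713, 3722, 722, 710, 733, 1322, 525, 1330])])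
    (h22 : S [(true, [312]), (true, [522]), (true, [710]), (true, [1120])])
    (h23 : S [(true, [312]), (true, [522]), (true, [710]), (true, [1710])])
    (h24 : S [(true, [312]), (true, [522]), (true, [710]), (true, [1320, 2910, 1930])])
    (h25 : S [(true, [312]), (true, [522]), (true, [710]), (false, [1120, 1710, 1320, 2910, 1930])])
    (h26 : S [(true, [312]), (true, [522]), (true, [720, 711])])
    (h27 : S [(true, [312]), (true, [522]), (true, [1120])])
    (h28 : S [(true, [312]), (true, [522]), (false, [710, 720, 711, 1120])])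
    (h29 : S [(true, [312]), (true, [510]), (true, [722, 1110, 720, 1710])])
    (h30 : S [(true, [312]), (true, [510]), (true, [711, 710])])
    (h31 : S [(true, [312]), (true, [510]), (false, [722, 1110, 720, 1710, 711, 710])])
    (h32 : S [(true, [312]), (true, [511]), (true, [710])])
    (h33 : S [(true, [312]), (true, [511]), (false, [710])])
    (h34 : S [(true, [312]), (true, [520, 513, 730])])
    (h35 : S [(true, [312]), (true, [512, 710])])
    (h36 : S [(true, [312]), (false, [522, 510, 511, 520, 513, 730, 512, 710])])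
    (h37 : S [(true, [313]), (true, [522, 511, 510])])
    (h38 : S [(true, [313]), (false, [522, 511, 510])])
    (h39 : S [(true, [314, 511, 522])])
    (h40 : S [(false, [310, 312, 313, 314, 511, 522])])
    : Cov S :=
  Cov.split _ [[310], [312], [313], [314, 511, 522]]
    (List.forall_mem_cons.2 ⟨Cov.split _ [[522], [511], [510], [512, 513, 1930], [520, 711, 720, 713, 3722], [722, 710, 733, 1322, 525, 1330]]
        (List.forall_mem_cons.2 ⟨Cov.split _ [[710], [722], [711], [733, 1920, 1322], [1310, 1120, 1124], [1910, 1710, 720], [1122, 712]]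
            (List.forall_mem_cons.2 ⟨Cov.split _ [[1310, 1122, 1710, 1120, 1911], [1311, 1322, 1910]]
                (List.forall_mem_cons.2 ⟨Cov.base _ h0,
                (List.forall_mem_cons.2 ⟨Cov.base _ h1, nil_all⟩)⟩) h2,
            (List.forall_mem_cons.2 ⟨Cov.split _ [[1310, 1120]]
                (List.forall_mem_cons.2 ⟨Cov.base _ h3, nil_all⟩) h4,
            (List.forall_mem_cons.2 ⟨Cov.split _ [[1310, 1710]]
                (List.forall_mem_cons.2 ⟨Cov.base _ h5, nil_all⟩) h6,
            (List.forall_mem_cons.2 ⟨Cov.base _ h7,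
            (List.forall_mem_cons.2 ⟨Cov.base _ h8,
            (List.forall_mem_cons.2 ⟨Cov.base _ h9,
            (List.forall_mem_cons.2 ⟨Cov.base _ h10, nil_all⟩)⟩)⟩)⟩)⟩)⟩)⟩) h11,
        (List.forall_mem_cons.2 ⟨Cov.split _ [[722, 1311, 1312], [710, 733, 1310], [711, 1122, 712, 720]]
            (List.forall_mem_cons.2 ⟨Cov.base _ h12,
            (List.forall_mem_cons.2 ⟨Cov.base _ h13,
            (List.forall_mem_cons.2 ⟨Cov.base _ h14, nil_all⟩)⟩)⟩) h15,
        (List.forall_mem_cons.2 ⟨Cov.split _ [[722, 711, 710, 1111, 720]]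
            (List.forall_mem_cons.2 ⟨Cov.base _ h16, nil_all⟩) h17,
        (List.forall_mem_cons.2 ⟨Cov.base _ h18,
        (List.forall_mem_cons.2 ⟨Cov.base _ h19,
        (List.forall_mem_cons.2 ⟨Cov.base _ h20, nil_all⟩)⟩)⟩)⟩)⟩)⟩) h21,
    (List.forall_mem_cons.2 ⟨Cov.split _ [[522], [510], [511], [520, 513, 730], [512, 710]]
        (List.forall_mem_cons.2 ⟨Cov.split _ [[710], [720, 711], [1120]]
            (List.forall_mem_cons.2 ⟨Cov.split _ [[1120], [1710], [1320, 2910, 1930]]
                (List.forall_mem_cons.2 ⟨Cov.base _ h22,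
                (List.forall_mem_cons.2 ⟨Cov.base _ h23,
                (List.forall_mem_cons.2 ⟨Cov.base _ h24, nil_all⟩)⟩)⟩) h25,
            (List.forall_mem_cons.2 ⟨Cov.base _ h26,
            (List.forall_mem_cons.2 ⟨Cov.base _ h27, nil_all⟩)⟩)⟩) h28,
        (List.forall_mem_cons.2 ⟨Cov.split _ [[722, 1110, 720, 1710], [711, 710]]
            (List.forall_mem_cons.2 ⟨Cov.base _ h29,
            (List.forall_mem_cons.2 ⟨Cov.base _ h30, nil_all⟩)⟩) h31,
        (List.forall_mem_cons.2 ⟨Cov.split _ [[710]]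
            (List.forall_mem_cons.2 ⟨Cov.base _ h32, nil_all⟩) h33,
        (List.forall_mem_cons.2 ⟨Cov.base _ h34,
        (List.forall_mem_cons.2 ⟨Cov.base _ h35, nil_all⟩)⟩)⟩)⟩)⟩) h36,
    (List.forall_mem_cons.2 ⟨Cov.split _ [[522, 511, 510]]
        (List.forall_mem_cons.2 ⟨Cov.base _ h37, nil_all⟩) h38,
    (List.forall_mem_cons.2 ⟨Cov.base _ h39, nil_all⟩)⟩)⟩)⟩) h40

theorem arith : ArithStmt.{u} := arith_of H43.KCL.leaf_sound H61.KcDfs.dfs_sound
  (cov _ part0 part1 part2 part3 part4 part5 part6 part7 part8 part9 part10 part11 part12 part13 part14 part15 part16 part17 part18 part19 part20 part21 part22 part23 part24 part25 part26 part27 part28 part29 part30 part31 part32 part33 part34 part35 part36 part37 part38 part39 part40)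

end Cfsg.Agent.H9.KC
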